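import Mathlib
import Cfsg.Agent.Classical.AltForm

/-!
Subgroups of a symplectic group in characteristic two containing, at one point `a`, an element-free-of-elations
complement of the unipotent radical of the stabiliser of `a`: the geometry of the orbit of `a`, and the case where
the orbit contains three points of a hyperbolic line.
-/

set_option autoImplicit false

namespace Cfsg.Agent.ElatFree

open Module

variable {F V : Type*} [Field F] [CharP F 2] [AddCommGroup V] [Module F V]

theorem vadd_self (F : Type*) [Field F] [CharP F 2] {V : Type*} [AddCommGroup V] [Module F V] (x : V) : x + x = 0 := by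
  rw [← two_smul F x, CharTwo.two_eq_zero, zero_smul]

variable (B : LinearMap.BilinForm F V)

/-- The Siegel map with centre `a`, direction `v` and parameter `c`. -/
def siegelFun (a v : V) (c : F) (u : V) : V := u + B a u • v + B v u • a + (c * B a u) • a

/-- `L` contains the Siegel element given by `a`, `v`, `c`. -/
def Has (L : Subgroup (V ≃ₗ[F] V)) (a v : V) (c : F) : Prop :=
  B a v = 0 ∧ ∃ g ∈ L, ∀ u, g u = siegelFun B a v c u

/-- The standing hypotheses. -/
structure Setup (L : Subgroup (V ≃ₗ[F] V)) (a₀ : V) : Prop where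
  alt : B.IsAlt
  nondeg : B.Nondegenerate
  le : L ≤ Classical.Alt.isoGroup B
  ne : a₀ ≠ 0
  irred : ∀ W : Submodule F V, (∀ g ∈ L, ∀ w ∈ W, g w ∈ W) → W = ⊥ ∨ W = ⊤
  compl : ∀ v, B a₀ v = 0 → ∃ c, Has B L a₀ v c

/-- The vectors on the points of the orbit of `a₀`. -/
def Pts (L : Subgroup (V ≃ₗ[F] V)) (a₀ p : V) : Prop :=
  ∃ g ∈ L, ∃ μ : F, μ ≠ 0 ∧ p = μ • g a₀

/-- Some hyperbolic line carries three points of the orbit. -/
def ThreeOnLine (L : Subgroup (V ≃ₗ[F] V)) (a₀ : V) : Prop :=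
  ∃ (a b : V) (ν : F), Pts L a₀ a ∧ Pts L a₀ b ∧ B a b = 1 ∧ ν ≠ 0 ∧ Pts L a₀ (b + ν • a)

variable {B}

theorem symm' (hA : B.IsAlt) (x y : V) : B x y = B y x := by
  rw [Classical.Alt.neg' hA x y, CharTwo.neg_eq]

theorem siegelFun_comp (hA : B.IsAlt) {a v v' : V} (hv : B a v = 0) (hv' : B a v' = 0) (c c' : F) (u : V) :
    siegelFun B a v c (siegelFun B a v' c' u) = siegelFun B a (v + v') (c + c' + B v v') u := by
  unfold siegelFun
  simp only [map_add, map_smul, LinearMap.add_apply, LinearMap.smul_apply, smul_eq_mul, hA.self_eq_zero,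
    hv', symm' hA v a, hv, mul_zero, add_zero, smul_add, add_smul, mul_add, mul_comm (B a u) (B v v'), add_mul]
  abel

theorem siegelFun_shift (hA : B.IsAlt) {a v : V} (c t : F) (u : V) :
    siegelFun B a (v + t • a) c u = siegelFun B a v c u := by
  unfold siegelFun
  simp only [map_add, map_smul, LinearMap.add_apply, LinearMap.smul_apply, smul_eq_mul, smul_add, add_smul,
    smul_smul, mul_comm t (B a u)]
  have := vadd_self F ((B a u * t) • a)
  calc u + (B a u • v + (B a u * t) • a) + (B v u • a + (B a u * t) • a) + (c * B a u) • a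
      = u + B a u • v + B v u • a + (c * B a u) • a + ((B a u * t) • a + (B a u * t) • a) := by abel
    _ = _ := by rw [this, add_zero]

omit [CharP F 2] in
theorem siegelFun_smul {a v : V} (c μ : F) (u : V) :
    siegelFun B (μ • a) v c u = siegelFun B a (μ • v) (μ ^ 2 * c) u := by
  unfold siegelFun
  simp only [map_smul, LinearMap.smul_apply, smul_eq_mul, smul_smul]
  ring_nf

variable {L : Subgroup (V ≃ₗ[F] V)} {a₀ : V}

namespace Setup

variable (S : Setup B L a₀)
include S

theorem sym (x y : V) : B x y = B y x := symm' S.alt x y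

theorem self (x : V) : B x x = 0 := S.alt.self_eq_zero x

theorem iso {g : V ≃ₗ[F] V} (hg : g ∈ L) (x y : V) : B (g x) (g y) = B x y := S.le hg x y

theorem has_mul {a v v' : V} {c c' : F} (h : Has B L a v c) (h' : Has B L a v' c') :
    Has B L a (v + v') (c + c' + B v v') := by
  obtain ⟨hv, g, hg, e⟩ := h
  obtain ⟨hv', g', hg', e'⟩ := h'
  refine ⟨by rw [map_add, hv, hv', add_zero], g * g', mul_mem hg hg', fun u => ?_⟩
  rw [LinearEquiv.mul_apply, e', e, siegelFun_comp S.alt hv hv']

theorem has_congr {a v : V} {c : F} (t : F) (h : Has B L a v c) : Has B L a (v + t • a) c := by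
  obtain ⟨hv, g, hg, e⟩ := h
  exact ⟨by rw [map_add, hv, map_smul, S.self, smul_zero, add_zero], g, hg,
    fun u => by rw [e, siegelFun_shift S.alt]⟩

theorem has_conj {g : V ≃ₗ[F] V} (hg : g ∈ L) {a v : V} {c : F} (h : Has B L a v c) :
    Has B L (g a) (g v) c := by
  obtain ⟨hv, x, hx, e⟩ := h
  refine ⟨by rw [S.iso hg, hv], g * x * g⁻¹, mul_mem (mul_mem hg hx) (inv_mem hg), fun u => ?_⟩
  obtain ⟨w, rfl⟩ := g.surjective u
  have e1 : (g * x * g⁻¹) (g w) = g (x w) := by
    simp [LinearEquiv.mul_apply, Classical.Alt.inv_apply_self]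
  rw [e1, e]
  unfold siegelFun
  simp only [map_add, map_smul, S.iso hg]

theorem has_smul {a v : V} {c μ : F} (h : Has B L a v c) (hμ : μ ≠ 0) :
    Has B L (μ • a) (μ⁻¹ • v) (μ⁻¹ ^ 2 * c) := by
  obtain ⟨hv, g, hg, e⟩ := h
  refine ⟨by rw [map_smul, map_smul, LinearMap.smul_apply, hv, smul_zero, smul_zero], g, hg, fun u => ?_⟩
  rw [e, siegelFun_smul, smul_smul, mul_inv_cancel₀ hμ, one_smul, ← mul_assoc, ← mul_pow, mul_inv_cancel₀ hμ,
    one_pow, one_mul]

theorem has_unsmul {a v : V} {c μ : F} (h : Has B L (μ • a) v c) (hμ : μ ≠ 0) :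
    Has B L a (μ • v) (μ ^ 2 * c) := by
  have := S.has_smul h (inv_ne_zero hμ)
  rwa [smul_smul, inv_mul_cancel₀ hμ, one_smul, inv_inv] at this

theorem base : Pts L a₀ a₀ := ⟨1, one_mem L, 1, one_ne_zero, by simp⟩

theorem pts_ne {p : V} (hp : Pts L a₀ p) : p ≠ 0 := by
  obtain ⟨g, -, μ, hμ, rfl⟩ := hp
  exact smul_ne_zero hμ fun h => S.ne (g.map_eq_zero_iff.1 h)

theorem pts_smul {p : V} (hp : Pts L a₀ p) {μ : F} (hμ : μ ≠ 0) : Pts L a₀ (μ • p) := by
  obtain ⟨g, hg, ν, hν, rfl⟩ := hp
  exact ⟨g, hg, μ * ν, mul_ne_zero hμ hν, by rw [smul_smul]⟩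

theorem pts_map {p : V} (hp : Pts L a₀ p) {g : V ≃ₗ[F] V} (hg : g ∈ L) : Pts L a₀ (g p) := by
  obtain ⟨h, hh, ν, hν, rfl⟩ := hp
  exact ⟨g * h, mul_mem hg hh, ν, hν, by rw [map_smul, LinearEquiv.mul_apply]⟩

theorem pts_has {a v : V} {c : F} (h : Has B L a v c) {p : V} (hp : Pts L a₀ p) :
    Pts L a₀ (siegelFun B a v c p) := by
  obtain ⟨-, g, hg, e⟩ := h
  rw [← e]
  exact S.pts_map hp hg

theorem compl_at {p : V} (hp : Pts L a₀ p) {v : V} (hv : B p v = 0) : ∃ c, Has B L p v c := by
  obtain ⟨g, hg, μ, hμ, rfl⟩ := hp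
  obtain ⟨v', rfl⟩ := g.surjective v
  have hv' : B a₀ (μ • v') = 0 := by
    rw [map_smul, LinearMap.smul_apply, S.iso hg] at hv
    rw [map_smul]; exact hv
  obtain ⟨c, hc⟩ := S.compl _ hv'
  refine ⟨μ⁻¹ ^ 2 * c, ?_⟩
  have := S.has_smul (S.has_conj hg hc) hμ
  rwa [map_smul, smul_smul, inv_mul_cancel₀ hμ, one_smul] at this

theorem span_pts : Submodule.span F {p | Pts L a₀ p} = ⊤ := by
  refine (S.irred _ fun g hg w hw => ?_).resolve_left fun h => S.ne ?_
  · induction hw using Submodule.span_induction with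
    | mem x hx => exact Submodule.subset_span (S.pts_map hx hg)
    | zero => rw [map_zero]; exact zero_mem _
    | add x y _ _ hx hy => rw [map_add]; exact add_mem hx hy
    | smul c x _ hx => rw [map_smul]; exact Submodule.smul_mem _ c hx
  · exact (Submodule.mem_bot F).1 (h ▸ Submodule.subset_span S.base)

theorem exists_partner {a : V} (ha : a ≠ 0) : ∃ b, Pts L a₀ b ∧ B a b = 1 := by
  obtain ⟨p, hp, hne⟩ : ∃ p, Pts L a₀ p ∧ B a p ≠ 0 := by
    by_contra h
    push Not at h
    have hall : ∀ x, B a x = 0 := fun x => by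
      have hx : x ∈ Submodule.span F {p | Pts L a₀ p} := by rw [S.span_pts]; trivial
      induction hx using Submodule.span_induction with
      | mem y hy => exact h y hy
      | zero => exact map_zero _
      | add y z _ _ hy hz => rw [map_add, hy, hz, add_zero]
      | smul c y _ hy => rw [map_smul, hy, smul_zero]
    exact ha (S.nondeg.1 a hall)
  exact ⟨(B a p)⁻¹ • p, S.pts_smul hp (inv_ne_zero hne), by rw [map_smul, smul_eq_mul, inv_mul_cancel₀ hne]⟩

theorem siegel_partner {a b v : V} {c : F} (hab : B a b = 1) :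
    siegelFun B a v c b = b + v + (B v b + c) • a := by
  unfold siegelFun
  rw [hab, one_smul, mul_one, add_smul, ← add_assoc]

theorem move {a b u : V} (ha : Pts L a₀ a) (hb : B a b = 1) (hu : B a u = 1) :
    ∃ g ∈ L, g a = a ∧ ∃ t : F, g b = u + t • a := by
  have hv : B a (u + b) = 0 := by rw [map_add, hu, hb, CharTwo.add_self_eq_zero]
  obtain ⟨c, -, g, hg, e⟩ := S.compl_at ha hv
  refine ⟨g, hg, ?_, B (u + b) b + c, ?_⟩
  · rw [e]; unfold siegelFun
    rw [S.self, S.sym (u + b) a, hv]; simp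
  · rw [e, S.siegel_partner hb]
    congr 1
    rw [add_comm u b, ← add_assoc, vadd_self F, zero_add]

end Setup

end Cfsg.Agent.ElatFree
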