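import Cfsg.Agent.ElatFree.Quadric
import Cfsg.Agent.Classical.OrthSpinor

/-!
The case of a quadric: `L` is the full isometry group or the kernel of the Dickson invariant. The Dickson invariant
is multiplicative without exception (embed into a space two dimensions larger).
-/

set_option autoImplicit false

namespace Cfsg.Agent.ElatFree

open Module QuadraticMap Classical.Quad

section dickson

variable {F V : Type*} [Field F] [AddCommGroup V] [Module F V] (Q : QuadraticForm F V)

/-- The orthogonal sum with a hyperbolic plane. -/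
def addHyp : QuadraticForm F (V × (F × F)) :=
  Q.comp (LinearMap.fst F V (F × F)) +
    QuadraticMap.linMulLin ((LinearMap.fst F F F).comp (LinearMap.snd F V (F × F)))
      ((LinearMap.snd F F F).comp (LinearMap.snd F V (F × F)))

theorem addHyp_apply (x : V × (F × F)) : addHyp Q x = Q x.1 + x.2.1 * x.2.2 := rfl

theorem polar_addHyp (x y : V × (F × F)) :
    polar (addHyp Q) x y = polar Q x.1 y.1 + (x.2.1 * y.2.2 + x.2.2 * y.2.1) := by
  simp only [QuadraticMap.polar, addHyp_apply, Prod.fst_add, Prod.snd_add]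
  ring

theorem nondeg_addHyp (hQ : (polarBilin Q).Nondegenerate) : (polarBilin (addHyp Q)).Nondegenerate := by
  have h : ∀ x, (∀ y, polarBilin (addHyp Q) x y = 0) → x = 0 := fun x hx => by
    have h1 : x.1 = 0 := hQ.1 _ fun y => by
      have := hx (y, 0)
      rw [polarBilin_apply_apply, polar_addHyp] at this
      simpa using this
    have h2 := hx (0, (1, 0))
    have h3 := hx (0, (0, 1))
    rw [polarBilin_apply_apply, polar_addHyp, h1] at h2 h3
    simp only [polar_zero_left, mul_zero, mul_one, zero_add, add_zero] at h2 h3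
    exact Prod.ext h1 (Prod.ext h3 h2)
  refine ⟨h, fun x hx => h x fun y => ?_⟩
  rw [polarBilin_apply_apply, polar_comm]
  exact hx y

/-- The extension of an isometry. -/
noncomputable def extend : oG Q →* oG (addHyp Q) :=
  MonoidHom.mk' (fun g => ⟨g.1.prodCongr (LinearEquiv.refl F (F × F)), fun x => by
    rw [addHyp_apply, addHyp_apply]
    simp only [LinearEquiv.prodCongr_apply, LinearEquiv.refl_apply, g.2 x.1]⟩)
    fun g h => ext_oG fun x => by simp [LinearEquiv.mul_apply]

theorem extend_apply (g : oG Q) (x : V × (F × F)) : (extend Q g).1 x = (g.1 x.1, x.2) := rfl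

variable [FiniteDimensional F V]

theorem dsign_extend (g : oG Q) : dsign (extend Q g) = dsign g := by
  have e : fixSub (extend Q g) = (fixSub g).prod (⊤ : Submodule F (F × F)) := by
    ext x
    rw [mem_fixSub, extend_apply, Submodule.mem_prod, mem_fixSub, Prod.ext_iff]
    simp
  have h : finrank F (fixSub (extend Q g)) = finrank F (fixSub g) + 2 := by
    let φ : ↥((fixSub g).prod (⊤ : Submodule F (F × F))) ≃ₗ[F] (fixSub g) × (F × F) :=
      { toFun := fun x => (⟨x.1.1, (Submodule.mem_prod.1 x.2).1⟩, x.1.2)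
        invFun := fun y => ⟨(y.1.1, y.2), Submodule.mem_prod.2 ⟨y.1.2, Submodule.mem_top⟩⟩
        map_add' := fun x y => rfl
        map_smul' := fun c x => rfl
        left_inv := fun x => rfl
        right_inv := fun y => rfl }
    rw [e, φ.finrank_eq, Module.finrank_prod, Module.finrank_prod, Module.finrank_self]
  rw [dsign, dsign, h, Module.finrank_prod (R := F) (M := V) (M' := F × F), Module.finrank_prod, Module.finrank_self,
    show finrank F V + (1 + 1) + (finrank F (fixSub g) + 2) = finrank F V + finrank F (fixSub g) + 4 by ring,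
    pow_add]
  simp [show ((-1 : ℤˣ) ^ 4) = 1 from rfl]

variable [Finite F]

theorem hex_addHyp (hd : 3 < finrank F V) : Nat.card F ≠ 2 ∨ finrank F (V × (F × F)) ≠ 4 := by
  right
  simp only [Module.finrank_prod, Module.finrank_self]
  omega

/-- The Dickson invariant, in any dimension at least four. -/
noncomputable def dickson' (hQ : (polarBilin Q).Nondegenerate) (hd : 3 < finrank F V) : oG Q →* ℤˣ :=
  (dickson (nondeg_addHyp Q hQ) (hex_addHyp hd)).comp (extend Q)

theorem dickson'_apply (hQ : (polarBilin Q).Nondegenerate) (hd : 3 < finrank F V) (g : oG Q) :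
    dickson' Q hQ hd g = dsign g := dsign_extend Q g

theorem dickson'_rO (hQ : (polarBilin Q).Nondegenerate) (hd : 3 < finrank F V) {v : V} (hv : Q v ≠ 0) :
    dickson' Q hQ hd (rO hv) = -1 := by
  rw [dickson'_apply, ← one_mul (rO hv), dsign_mul_rO hQ 1 hv, dsign_one]

theorem dickson'_sO (hQ : (polarBilin Q).Nondegenerate) (hd : 3 < finrank F V) [CharP F 2] {p w : V}
    (hp : Q p = 0) (hpw : polar Q p w = 0) : dickson' Q hQ hd (sO hp hpw) = 1 := by
  have hp' : addHyp Q (p, 0) = 0 := by simp [addHyp_apply, hp]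
  have hw' : polar (addHyp Q) (p, 0) (w, 0) = 0 := by rw [polar_addHyp]; simp [hpw]
  have h1' : polar (addHyp Q) (p, 0) (0, (1, 1)) = 0 := by rw [polar_addHyp]; simp
  have e : extend Q (sO hp hpw) = sO hp' hw' := ext_oG fun x => by
    rw [extend_apply, sO_apply, sO_apply, polar_addHyp, polar_addHyp, addHyp_apply]
    ext <;> simp
  show dickson (nondeg_addHyp Q hQ) (hex_addHyp hd) (extend Q (sO hp hpw)) = 1
  have step : ∀ {z : V × (F × F)} (hz : polar (addHyp Q) (p, 0) z = 0), addHyp Q z ≠ 0 →
      dickson (nondeg_addHyp Q hQ) (hex_addHyp hd) (sO hp' hz) = 1 := fun {z} hz hne => by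
    obtain ⟨hv', -, e'⟩ := sO_eq_rO_mul hp' hz hne
    rw [e', map_mul, dickson_rO, dickson_rO]
    decide
  rw [e]
  by_cases hQw : Q w = 0
  · have hsplit : sO hp' hw' = sO hp' (polar_perp_add hw' h1') * sO hp' h1' := by
      rw [sO_mul]
      exact sO_congr _ _ _ (by ext <;> simp [CharTwo.add_self_eq_zero])
    rw [hsplit, map_mul, step _ (by rw [addHyp_apply]; simp [hQw]), step _ (by rw [addHyp_apply]; simp), one_mul]
  · exact step hw' (by rw [addHyp_apply]; simpa using hQw)

end dickson

variable {F V : Type*} [Field F] [CharP F 2] [AddCommGroup V] [Module F V]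
  {B : LinearMap.BilinForm F V} {L : Subgroup (V ≃ₗ[F] V)} {a₀ : V}

namespace Setup

variable (S : Setup B L a₀)
include S

theorem sO_mem {Q : QuadraticForm F V} (hQp : ∀ x y, polar Q x y = B x y)
    (hpts : ∀ x, Pts L a₀ x ↔ x ≠ 0 ∧ Q x = 0) (hL : ∀ g ∈ L, ∀ x, Q (g x) = Q x) {p w : V} (hp : Q p = 0)
    (hpw : polar Q p w = 0) : (sO hp hpw).1 ∈ L := by
  rcases eq_or_ne p 0 with rfl | hp0
  · have : (sO hp hpw).1 = 1 := LinearEquiv.ext fun x => by rw [sO_apply]; simp
    rw [this]; exact one_mem L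
  have hP : Pts L a₀ p := (hpts p).2 ⟨hp0, hp⟩
  have hpw' : B p w = 0 := by rw [← hQp]; exact hpw
  obtain ⟨c, -, g, hg, e⟩ := S.compl_at hP hpw'
  obtain ⟨b, hb, hpb⟩ := S.exists_partner hp0
  have hbQ := ((hpts b).1 hb).2
  have hgb : g b = b + w + (B w b + c) • p := by rw [e, S.siegel_partner hpb]
  have hc : c = Q w := by
    have h := hL g hg b
    rw [hgb, map_add', map_add', map_smul', polar_add_left, polar_smul_right, polar_smul_right, hQp, hQp, hQp, hp,
      hbQ, smul_eq_mul, smul_eq_mul, S.sym b p, hpb, S.sym w p, hpw', S.sym b w] at h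
    linear_combination h - (B w b) * CharTwo.two_eq_zero (R := F) - Q w * CharTwo.two_eq_zero (R := F)
  have : (sO hp hpw).1 = g := LinearEquiv.ext fun x => by
    rw [e, sO_apply, siegelFun, hQp, hQp, CharTwo.neg_eq, CharTwo.neg_eq, S.sym x w, S.sym x p, hc]
    abel
  rw [this]
  exact hg

theorem quadric_cases [FiniteDimensional F V] [Finite F] (h2 : ¬ ThreeOnLine B L a₀) (hd : 3 < finrank F V) :
    ∃ Q : QuadraticForm F V, (∀ x y, polar Q x y = B x y) ∧
      ((∀ g, g ∈ L ↔ ∀ x, Q (g x) = Q x) ∨
        ∀ g, g ∈ L ↔ ∃ h : oG Q, h.1 = g ∧ dsign h = 1) := by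
  obtain ⟨Q, hQp, hpts, hL⟩ := S.exists_form h2
  refine ⟨Q, hQp, ?_⟩
  have hQ : (polarBilin Q).Nondegenerate := by
    have e : polarBilin Q = B := LinearMap.ext fun x => LinearMap.ext fun y => hQp x y
    rw [e]; exact S.nondeg
  obtain ⟨b, hb, hab⟩ := S.exists_partner S.ne
  set a := a₀ with hadef
  have hQa : Q a = 0 := ((hpts a).1 S.base).2
  have hQb : Q b = 0 := ((hpts b).1 hb).2
  have hba : B b a = 1 := by rw [S.sym, hab]
  set N : Subgroup (oG Q) := Subgroup.closure {x | ∃ (p w : V) (hp : Q p = 0) (hpw : polar Q p w = 0), x = sO hp hpw}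
    with hN
  have hsN : ∀ {p w : V} (hp : Q p = 0) (hpw : polar Q p w = 0), sO hp hpw ∈ N := fun hp hpw =>
    Subgroup.subset_closure ⟨_, _, hp, hpw, rfl⟩
  have hNn : N.Normal := ⟨fun x hx g => by
    induction hx using Subgroup.closure_induction with
    | mem x hx =>
      obtain ⟨p, w, hp, hpw, rfl⟩ := hx
      rw [conj_sO]; exact hsN _ _
    | one => simp
    | mul x y _ _ hx hy =>
      rw [show g * (x * y) * g⁻¹ = (g * x * g⁻¹) * (g * y * g⁻¹) by group]; exact mul_mem hx hy
    | inv x _ hx =>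
      rw [show g * x⁻¹ * g⁻¹ = (g * x * g⁻¹)⁻¹ by group]; exact inv_mem hx⟩
  have hNL : ∀ x ∈ N, x.1 ∈ L := fun x hx => by
    induction hx using Subgroup.closure_induction with
    | mem x hx => obtain ⟨p, w, hp, hpw, rfl⟩ := hx; exact S.sO_mem hQp hpts hL hp hpw
    | one => exact one_mem L
    | mul x y _ _ hx hy => exact mul_mem hx hy
    | inv x _ hx => exact inv_mem hx
  have hNd : ∀ x ∈ N, dickson' Q hQ hd x = 1 := fun x hx => by
    induction hx using Subgroup.closure_induction with
    | mem x hx => obtain ⟨p, w, hp, hpw, rfl⟩ := hx; exact dickson'_sO Q hQ hd hp hpw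
    | one => exact map_one _
    | mul x y _ _ hx hy => rw [map_mul, hx, hy, one_mul]
    | inv x _ hx => rw [map_inv, hx, inv_one]
  have hsum : Q (a + b) = 1 := by rw [map_add', hQa, hQb, hQp, hab, add_zero, zero_add]
  have hsum0 : Q (a + b) ≠ 0 := by rw [hsum]; exact one_ne_zero
  have hperp : ∀ x : V, B a (perpPart B a b x) = 0 ∧ B b (perpPart B a b x) = 0 := fun x => by
    constructor <;>
      simp [perpPart, S.self, hab, hba, CharTwo.add_self_eq_zero]
  have case1 : ∀ v, Q v = 1 → B a v = 1 → ∃ g ∈ N, g.1 (a + b) = v := fun v hv h1 => by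
    obtain ⟨hxa, hxb⟩ := hperp v
    set x := perpPart B a b v with hx
    have hv' : v = x + B b v • a + b := by
      rw [hx, perpPart, h1, one_smul]
      have e1 := vadd_self F (B b v • a)
      have e2 := vadd_self F b
      calc v = v + ((B b v • a + B b v • a) + (b + b)) := by rw [e1, e2, add_zero, add_zero]
        _ = _ := by abel
    have hα : Q x + B b v = 1 := by
      rw [hv', map_add', map_add', map_smul', hQa, hQb, polar_add_left, polar_smul_right, polar_smul_left, hQp, hQp,
        hQp, S.sym x a, S.sym x b, hxa, hxb, hab, smul_eq_mul, smul_eq_mul] at hv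
      linear_combination hv
    have hxp : polar Q a x = 0 := by rw [hQp, hxa]
    refine ⟨sO hQa hxp, hsN _ _, ?_⟩
    rw [sO_apply]
    simp only [hQp, LinearMap.map_add₂, S.self, hba, hxa, hxb, zero_add, add_zero, zero_smul, mul_one,
      CharTwo.neg_eq, one_smul]
    conv_rhs => rw [hv', show B b v = 1 + Q x by linear_combination hα - Q x * CharTwo.two_eq_zero (R := F)]
    rw [add_smul, one_smul]
    abel
  have trans : ∀ v, Q v = 1 → ∃ g ∈ N, g.1 (a + b) = v := fun v hv => by
    by_cases hβ : B a v = 1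
    · exact case1 v hv hβ
    set α := B b v with hα
    set T := 1 + B a v with hT
    have hT0 : T ≠ 0 := fun h => hβ (CharTwo.add_eq_zero.1 h).symm
    obtain ⟨hwa, hwb⟩ := hperp v
    set w := perpPart B a b v with hw
    have hvw : v = w + α • a + B a v • b := by
      rw [hw, perpPart]
      have e1 := vadd_self F (α • a)
      have e2 := vadd_self F (B a v • b)
      calc v = v + ((α • a + α • a) + (B a v • b + B a v • b)) := by rw [e1, e2, add_zero, add_zero]
        _ = _ := by abel
    have hQv : Q w + α * B a v = 1 := by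
      rw [hvw, map_add', map_add', map_smul', map_smul', hQa, hQb, polar_add_left, polar_smul_right, polar_smul_left,
        polar_smul_right, polar_smul_right, hQp, hQp, hQp, S.sym w a, S.sym w b, hwa, hwb, hab] at hv
      simp only [smul_eq_mul] at hv
      linear_combination hv
    obtain ⟨x, hxa, hxb, hx⟩ : ∃ x, B a x = 0 ∧ B b x = 0 ∧ B w x + α * Q x = T := by
      have hpair : w ≠ 0 → ∃ e, B a e = 0 ∧ B b e = 0 ∧ B w e = 1 := fun hw0 => by
        obtain ⟨e₀, he, -⟩ := exists_functional S.nondeg (S := (⊥ : Submodule F V))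
          (show w ∉ (⊥ : Submodule F V) from fun h => hw0 ((Submodule.mem_bot F).1 h))
        refine ⟨perpPart B a b e₀, (hperp e₀).1, (hperp e₀).2, ?_⟩
        simp [perpPart, S.sym w a, S.sym w b, hwa, hwb, he]
      have hsq : ∀ z : F, ∃ t : F, t * t = z := fun z => by
        have : Fintype F := Fintype.ofFinite F
        obtain ⟨t, ht⟩ := FiniteField.isSquare_of_char_two (ringChar.eq F 2) z
        exact ⟨t, ht.symm⟩
      by_cases hα0 : α = 0
      · obtain ⟨e, he1, he2, he3⟩ := hpair fun h => one_ne_zero (α := F) (by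
          rw [← hQv, h, hα0, map_zero, zero_mul, add_zero])
        exact ⟨T • e, by rw [map_smul, he1, smul_zero], by rw [map_smul, he2, smul_zero],
          by rw [map_smul, he3, smul_eq_mul, mul_one, hα0, zero_mul, add_zero]⟩
      by_cases hQw : Q w = 0
      · by_cases hw0 : w = 0
        · obtain ⟨z, hz1, hz2, hz0⟩ := exists_perp_pair (B := B) a b (k := 1) (by omega) (⊥ : Submodule F V)
            (by simp)
          obtain ⟨e₀, he, -⟩ := exists_functional S.nondeg (S := (⊥ : Submodule F V)) hz0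
          have hze : B z (perpPart B a b e₀) = 1 := by
            simp [perpPart, S.sym z a, S.sym z b, hz1, hz2, he]
          obtain ⟨x₀, h1, h2', h3⟩ : ∃ x₀, B a x₀ = 0 ∧ B b x₀ = 0 ∧ Q x₀ ≠ 0 := by
            by_contra h
            push Not at h
            obtain ⟨hea, heb⟩ := hperp e₀
            have := h (z + perpPart B a b e₀) (by rw [map_add, hz1, hea, add_zero])
              (by rw [map_add, hz2, heb, add_zero])
            rw [map_add', h z hz1 hz2, h _ hea heb, hQp, hze, add_zero, zero_add] at this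
            exact one_ne_zero this
          obtain ⟨t, ht⟩ := hsq (T / (α * Q x₀))
          refine ⟨t • x₀, by rw [map_smul, h1, smul_zero], by rw [map_smul, h2', smul_zero], ?_⟩
          rw [hw0, map_zero, LinearMap.zero_apply, zero_add, map_smul', ht]
          field_simp
        · obtain ⟨e, he1, he2, he3⟩ := hpair hw0
          refine ⟨e + ((T + 1) / α + Q e) • w, by rw [map_add, he1, map_smul, hwa, smul_zero, add_zero],
            by rw [map_add, he2, map_smul, hwb, smul_zero, add_zero], ?_⟩
          rw [map_add, he3, map_smul, S.self, smul_zero, add_zero, map_add', map_smul', hQw, polar_smul_right,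
            hQp, S.sym e w, he3, smul_eq_mul]
          field_simp
          linear_combination (α + α ^ 2 * Q e) * CharTwo.two_eq_zero (R := F)
      · obtain ⟨t, ht⟩ := hsq (T / (α * Q w))
        refine ⟨t • w, by rw [map_smul, hwa, smul_zero], by rw [map_smul, hwb, smul_zero], ?_⟩
        rw [map_smul, S.self, smul_zero, zero_add, map_smul', ht]
        field_simp
    have hxp : polar Q b x = 0 := by rw [hQp, hxb]
    set v' := (sO hQb hxp).1 v with hv'def
    have h1 : B a v' = 1 := by
      rw [hv'def, sO_apply]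
      simp only [hQp, map_add, map_smul, smul_eq_mul, CharTwo.neg_eq, hab, hxa, mul_zero, mul_one, add_zero]
      have e1 : B v x = B w x := by
        conv_lhs => rw [hvw]
        simp [hxa, hxb]
      rw [e1, S.sym v b, ← hα]
      linear_combination hx + hT + B a v * CharTwo.two_eq_zero (R := F)
    obtain ⟨g, hg, hg'⟩ := case1 v' (by rw [hv'def, (sO hQb hxp).2, hv]) h1
    refine ⟨(sO hQb hxp)⁻¹ * g, mul_mem (inv_mem (hsN _ _)) hg, ?_⟩
    rw [oG_mul_apply, hg', hv'def, oG_inv_apply]
  set r₀ : oG Q := rO hsum0 with hr₀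
  have hrefl : ∀ (v : V) (hv : Q v ≠ 0), rO hv ∈ N ⊔ Subgroup.zpowers r₀ := fun v hv => by
    have : Fintype F := Fintype.ofFinite F
    obtain ⟨t, ht⟩ := FiniteField.isSquare_of_char_two (ringChar.eq F 2) (Q v)⁻¹
    have ht0 : t ≠ 0 := fun h => inv_ne_zero hv (by rw [ht, h, zero_mul])
    have htv : Q (t • v) = 1 := by rw [map_smul', ← ht, inv_mul_cancel₀ hv]
    obtain ⟨g, hg, hgv⟩ := trans _ htv
    rw [← rO_smul hv ht0 (by rw [htv]; exact one_ne_zero)]
    have e : g * r₀ * g⁻¹ = rO (v := t • v) (by rw [htv]; exact one_ne_zero) := by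
      rw [hr₀, conj_rO]; exact rO_congr _ _ hgv
    rw [← e]
    exact mul_mem (mul_mem (Subgroup.mem_sup_left hg) (Subgroup.mem_sup_right (Subgroup.mem_zpowers r₀)))
      (inv_mem (Subgroup.mem_sup_left hg))
  have htop : N ⊔ Subgroup.zpowers r₀ = ⊤ :=
    gen_eq_top hQ _ hrefl fun p w hp hpw => Subgroup.mem_sup_left (hsN hp hpw)
  have hdec : ∀ g : oG Q, g ∈ N ∨ g * r₀ ∈ N := fun g => by
    have hg : g ∈ N ⊔ Subgroup.zpowers r₀ := by rw [htop]; trivial
    obtain ⟨n, hn, z, hz, rfl⟩ := Subgroup.mem_sup_of_normal_left.1 hg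
    obtain ⟨k, rfl⟩ := Subgroup.mem_zpowers_iff.1 hz
    have hrr : r₀ ^ (2 : ℤ) = 1 := by rw [zpow_two, hr₀, rO_mul_self]
    rcases Int.even_or_odd k with ⟨j, rfl⟩ | ⟨j, rfl⟩
    · left; rw [← two_mul, zpow_mul, hrr, one_zpow, mul_one]; exact hn
    · right; rw [zpow_add, zpow_mul, hrr, one_zpow, one_mul, zpow_one, mul_assoc, hr₀, rO_mul_self, mul_one]
      exact hn
  have hsign : ∀ g : oG Q, dsign g = 1 → g ∈ N := fun g hg => by
    refine (hdec g).resolve_right fun h => ?_
    have := hNd _ h
    rw [map_mul, dickson'_apply, hg, hr₀, dickson'_rO, one_mul] at this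
    exact absurd this (by decide)
  have hiso : ∀ g ∈ L, g ∈ oG Q := fun g hg x => hL g hg x
  by_cases hodd : ∃ g, ∃ hg : g ∈ L, dsign (Q := Q) ⟨g, hiso g hg⟩ ≠ 1
  · left
    obtain ⟨g₁, hg₁, hd₁⟩ := hodd
    have hr0L : r₀.1 ∈ L := by
      have h : (⟨g₁, hiso g₁ hg₁⟩ : oG Q) * r₀ ∈ N := (hdec _).resolve_left fun h =>
        hd₁ (by rw [← dickson'_apply Q hQ hd]; exact hNd _ h)
      exact (mul_mem_cancel_left hg₁).1 (hNL _ h)
    intro g
    refine ⟨fun hg => hL g hg, fun hg => ?_⟩
    rcases hdec ⟨g, hg⟩ with h | h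
    · exact hNL _ h
    · exact (Subgroup.mul_mem_cancel_right L hr0L).1 (hNL _ h)
  · right
    push Not at hodd
    intro g
    exact ⟨fun hg => ⟨⟨g, hiso g hg⟩, rfl, hodd g hg⟩, fun ⟨h, hh, hs⟩ => hh ▸ hNL _ (hsign h hs)⟩

end Setup

end Cfsg.Agent.ElatFree
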