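import Cfsg.Agent.ElatFree.ThreeLine

/-!
If every hyperbolic line carries at most two points of the orbit, the orbit is the set of singular points of a
quadratic form preserved by `L`.
-/

set_option autoImplicit false

namespace Cfsg.Agent.ElatFree

open Module QuadraticMap

variable {F V : Type*} [Field F] [CharP F 2] [AddCommGroup V] [Module F V]
  {B : LinearMap.BilinForm F V} {L : Subgroup (V ≃ₗ[F] V)} {a₀ : V}

variable (B L) in
/-- The parameter of the Siegel element of `L` at `a` in the direction `v`. -/
noncomputable def par (a v : V) : F := Classical.epsilon fun c => Has B L a v c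

/-- The component orthogonal to a hyperbolic pair. -/
def perpPart (B : LinearMap.BilinForm F V) (a b x : V) : V := x + B b x • a + B a x • b

theorem perpPart_add (B : LinearMap.BilinForm F V) (a b x y : V) :
    perpPart B a b (x + y) = perpPart B a b x + perpPart B a b y := by
  unfold perpPart
  simp only [map_add, add_smul]
  abel

theorem perpPart_smul (B : LinearMap.BilinForm F V) (a b x : V) (r : F) :
    perpPart B a b (r • x) = r • perpPart B a b x := by
  unfold perpPart
  simp only [map_smul, smul_eq_mul, smul_add, smul_smul]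

namespace Setup

variable (S : Setup B L a₀) (h2 : ¬ ThreeOnLine B L a₀)
include S h2

theorem two {a b : V} {ν : F} (ha : Pts L a₀ a) (hb : Pts L a₀ b) (hab : B a b = 1)
    (hν : Pts L a₀ (b + ν • a)) : ν = 0 :=
  by_contra fun h => h2 ⟨a, b, ν, ha, hb, hab, h, hν⟩

theorem lam_zero {a : V} {e : F} (ha : Pts L a₀ a) (he : Has B L a 0 e) : e = 0 := by
  obtain ⟨b, hb, hab⟩ := S.exists_partner (S.pts_ne ha)
  refine S.two h2 ha hb hab ?_
  have := S.pts_has he hb
  rwa [S.siegel_partner hab, add_zero, map_zero, LinearMap.zero_apply, zero_add] at this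

theorem has_unique {a v : V} {c c' : F} (ha : Pts L a₀ a) (h : Has B L a v c) (h' : Has B L a v c') : c = c' := by
  have := S.has_mul h h'
  rw [vadd_self F, S.self, add_zero] at this
  exact CharTwo.add_eq_zero.1 (S.lam_zero h2 ha this)

theorem has_par {a v : V} (ha : Pts L a₀ a) (hv : B a v = 0) : Has B L a v (par B L a v) :=
  Classical.epsilon_spec (S.compl_at ha hv)

theorem par_eq {a v : V} {c : F} (ha : Pts L a₀ a) (h : Has B L a v c) : par B L a v = c :=
  S.has_unique h2 ha (S.has_par h2 ha h.1) h

theorem par_add {a v v' : V} (ha : Pts L a₀ a) (hv : B a v = 0) (hv' : B a v' = 0) :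
    par B L a (v + v') = par B L a v + par B L a v' + B v v' :=
  S.par_eq h2 ha (S.has_mul (S.has_par h2 ha hv) (S.has_par h2 ha hv'))

theorem par_zero {a : V} (ha : Pts L a₀ a) : par B L a 0 = 0 := by
  have h := S.par_add h2 ha (map_zero (B a)) (map_zero (B a))
  rw [add_zero, CharTwo.add_self_eq_zero, map_zero, add_zero] at h
  exact h

section pair

variable {a b : V} (ha : Pts L a₀ a) (hb : Pts L a₀ b) (hab : B a b = 1)
include ha hb hab

theorem swap_par {w : V} (hwa : B a w = 0) (hwb : B b w = 0) (hc : par B L b w ≠ 0) :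
    par B L a ((par B L b w)⁻¹ • w) = (par B L b w)⁻¹ := by
  set c := par B L b w with hcdef
  have hba : B b a = 1 := by rw [S.sym, hab]
  have hp := S.pts_has (S.has_par h2 hb hwb) ha
  rw [S.siegel_partner hba, S.sym w a, hwa, zero_add, ← hcdef] at hp
  have hwa' : B a (c⁻¹ • w) = 0 := by rw [map_smul, hwa, smul_zero]
  have hq := S.pts_has (S.has_par h2 ha hwa') hb
  rw [S.siegel_partner hab, LinearMap.map_smul₂, S.sym w b, hwb, smul_zero, zero_add] at hq
  have h1 : B a (b + c⁻¹ • w + par B L a (c⁻¹ • w) • a) = 1 := by
    rw [map_add, map_add, hab, hwa', map_smul, S.self, smul_zero, add_zero, add_zero]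
  have := S.two h2 ha hq h1 (ν := par B L a (c⁻¹ • w) + c⁻¹) (by
    have e := S.pts_smul hp (inv_ne_zero hc)
    rw [smul_add, smul_add, smul_smul, inv_mul_cancel₀ hc, one_smul] at e
    convert e using 1
    rw [add_assoc _ (par B L a (c⁻¹ • w) • a), add_smul, ← add_assoc (par B L a (c⁻¹ • w) • a), vadd_self F,
      zero_add]
    abel)
  exact CharTwo.add_eq_zero.1 this

theorem conj_par {w v : V} (hwa : B a w = 0) (hwb : B b w = 0) (hva : B a v = 0) (hvb : B b v = 0)
    (hc : par B L b w ≠ 0) :
    par B L b (par B L b w • v + B w v • w) = par B L b w ^ 2 * par B L a v := by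
  have hx := S.has_par h2 ha (v := (par B L b w)⁻¹ • w) (by rw [map_smul, hwa, smul_zero])
  rw [S.swap_par h2 ha hb hab hwa hwb hc] at hx
  have hy := S.has_par h2 hb hwb
  set c := par B L b w with hcdef
  obtain ⟨-, x, hxL, ex⟩ := hx
  obtain ⟨-, y, hyL, ey⟩ := hy
  have hh : x * y * x ∈ L := mul_mem (mul_mem hxL hyL) hxL
  have hba : B b a = 1 := by rw [S.sym, hab]
  have hsb : B (c⁻¹ • w) b = 0 := by rw [LinearMap.map_smul₂, S.sym w b, hwb, smul_zero]
  have hsw : B (c⁻¹ • w) w = 0 := by rw [LinearMap.map_smul₂, S.self, smul_zero]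
  have hsa : B (c⁻¹ • w) a = 0 := by rw [LinearMap.map_smul₂, S.sym w a, hwa, smul_zero]
  have xa : x a = a := by rw [ex, siegelFun_self _ _ _ (S.self a) hsa]
  have xw : x w = w := by rw [ex, siegelFun_self _ _ _ hwa hsw]
  have xb : x b = b + c⁻¹ • w + c⁻¹ • a := by rw [ex, S.siegel_partner hab, hsb, zero_add]
  have ya : y a = a + w + c • b := by rw [ey, S.siegel_partner hba, S.sym w a, hwa, zero_add]
  have ha' : (x * y * x) a = c • b := by
    simp only [LinearEquiv.mul_apply]
    rw [xa, ya, map_add, map_add, map_smul, xa, xw, xb, smul_add, smul_add, smul_smul, smul_smul,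
      mul_inv_cancel₀ hc, one_smul, one_smul]
    calc a + w + (c • b + w + a) = (a + a) + (w + w) + c • b := by abel
      _ = c • b := by rw [vadd_self F, vadd_self F, zero_add, zero_add]
  have hv' : (x * y * x) v = v + (c⁻¹ * B w v) • w := by
    simp only [LinearEquiv.mul_apply]
    have xv : x v = v + (c⁻¹ * B w v) • a := by
      rw [ex]; unfold siegelFun
      rw [hva, LinearMap.map_smul₂, smul_eq_mul]
      simp
    have yv : y v = v + B w v • b := by
      rw [ey]; unfold siegelFun
      rw [hvb]
      simp
    rw [xv, map_add, map_smul, ya, yv, map_add, map_add, map_smul, map_smul, map_add, map_add, map_smul, xa, xw,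
      xv, xb]
    simp only [smul_add, smul_smul]
    rw [show c⁻¹ * B w v * c = B w v by field_simp, show B w v * c⁻¹ = c⁻¹ * B w v by ring]
    rw [mul_inv_cancel₀ hc, mul_one]
    calc v + (c⁻¹ * B w v) • a + (B w v • b + (c⁻¹ * B w v) • w + (c⁻¹ * B w v) • a) +
          ((c⁻¹ * B w v) • a + (c⁻¹ * B w v) • w + (B w v • b + (c⁻¹ * B w v) • w + (c⁻¹ * B w v) • a))
        = v + (((c⁻¹ * B w v) • a + (c⁻¹ * B w v) • a) + ((c⁻¹ * B w v) • a + (c⁻¹ * B w v) • a)) +
            (B w v • b + B w v • b) + ((c⁻¹ * B w v) • w + (c⁻¹ * B w v) • w) +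
            (c⁻¹ * B w v) • w := by abel
      _ = _ := by
        rw [vadd_self F, vadd_self F, vadd_self F]
        simp
  have := S.has_conj hh (S.has_par h2 ha hva)
  rw [ha', hv'] at this
  have h := S.has_unsmul this hc
  rw [smul_add, smul_smul, ← mul_assoc, mul_inv_cancel₀ hc, one_mul] at h
  exact S.par_eq h2 hb h

theorem par_kernel [FiniteDimensional F V] {w : V} {μ : F} (hwa : B a w = 0) (hwb : B b w = 0)
    (hc : par B L b w ≠ 0) (hμ : μ ≠ 0) (hz : par B L b (μ • w) = 0) : False := by
  set c := par B L b w with hcdef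
  have hba : B b a = 1 := by rw [S.sym, hab]
  have hp := S.pts_has (S.has_par h2 hb hwb) ha
  rw [S.siegel_partner hba, S.sym w a, hwa, zero_add, ← hcdef] at hp
  have hμb : B b (μ • w) = 0 := by rw [map_smul, hwb, smul_zero]
  have hr := S.pts_has (S.has_par h2 hb hμb) ha
  rw [S.siegel_partner hba, hz, add_zero, LinearMap.map_smul₂, S.sym w a, hwa, smul_zero, zero_smul, add_zero] at hr
  have hw0 : w ≠ 0 := fun h => hc (by rw [hcdef, h]; exact S.par_zero h2 hb)
  have hperp : B a (a + μ • w) = 0 := by rw [map_add, S.self, map_smul, hwa, smul_zero, add_zero]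
  have hind : a + μ • w ∉ Submodule.span F ({a} : Set V) := fun h => by
    obtain ⟨r, hr'⟩ := Submodule.mem_span_singleton.1 h
    have := congrArg (B b) hr'
    rw [map_smul, hba, map_add, hba, map_smul, hwb, smul_zero, add_zero, smul_eq_mul, mul_one] at this
    subst this
    rw [one_smul, left_eq_add, smul_eq_zero] at hr'
    exact hr'.elim hμ hw0
  have hw := S.pts_smul (S.perp_line ha hr hperp hind 1) (inv_ne_zero hμ)
  rw [one_smul, add_right_comm, vadd_self F, zero_add, smul_smul, inv_mul_cancel₀ hμ, one_smul] at hw
  have hperp2 : B w (a + w + c • b) = 0 := by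
    rw [map_add, map_add, S.sym w a, hwa, S.self, map_smul, S.sym w b, hwb, smul_zero, add_zero, add_zero]
  have hind2 : a + w + c • b ∉ Submodule.span F ({w} : Set V) := fun h => by
    obtain ⟨r, hr'⟩ := Submodule.mem_span_singleton.1 h
    have := congrArg (B b) hr'
    rw [map_smul, hwb, smul_zero, map_add, map_add, hba, hwb, map_smul, S.self, smul_zero, add_zero, add_zero] at this
    exact one_ne_zero this.symm
  have hl := S.pts_smul (S.perp_line hw hp hperp2 hind2 1) (inv_ne_zero hc)
  rw [one_smul, show a + w + c • b + w = (w + w) + (c • b + a) by abel, vadd_self F, zero_add, smul_add, smul_smul,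
    inv_mul_cancel₀ hc, one_smul] at hl
  exact inv_ne_zero hc (S.two h2 ha hb hab hl)

theorem par_smul_of_ne [FiniteDimensional F V] [Finite F] {w : V} (hwa : B a w = 0) (hwb : B b w = 0)
    (hc : par B L b w ≠ 0) (r : F) : par B L b (r • w) = r ^ 2 * par B L b w := by
  set c := par B L b w with hcdef
  have hwa' : ∀ t : F, B a (t • w) = 0 := fun t => by rw [map_smul, hwa, smul_zero]
  have hwb' : ∀ t : F, B b (t • w) = 0 := fun t => by rw [map_smul, hwb, smul_zero]
  have hline : ∀ μ t : F, par B L b (μ • w) ≠ 0 →
      par B L b ((par B L b (μ • w) * t) • w) = par B L b (μ • w) ^ 2 * par B L a (t • w) := fun μ t h => by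
    have := S.conj_par h2 ha hb hab (hwa' μ) (hwb' μ) (hwa' t) (hwb' t) h
    rwa [LinearMap.map_smul₂, map_smul, S.self, smul_zero, smul_zero, zero_smul, add_zero, smul_smul] at this
  let g : F →+ F := AddMonoidHom.mk' (fun t => par B L b (t • w) / c) fun s t => by
    rw [add_smul, S.par_add h2 hb (hwb' s) (hwb' t), LinearMap.map_smul₂, map_smul, S.self, smul_zero, smul_zero,
      add_zero, add_div]
  have ginj : Function.Injective g := by
    rw [injective_iff_map_eq_zero]
    intro t ht
    by_contra h
    exact S.par_kernel h2 ha hb hab hwa hwb hc h ((div_eq_zero_iff.1 ht).resolve_right hc)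
  have g1 : g 1 = 1 := by show par B L b ((1 : F) • w) / c = 1; rw [one_smul, div_self hc]
  have key : ∀ μ t : F, g (g μ * t) = g μ ^ 2 * g t := fun μ t => by
    rcases eq_or_ne μ 0 with rfl | hμ
    · rw [map_zero, zero_mul, map_zero, zero_pow two_ne_zero, zero_mul]
    have hne : par B L b (μ • w) ≠ 0 := fun h => S.par_kernel h2 ha hb hab hwa hwb hc hμ h
    have hc1 : par B L b ((1 : F) • w) ≠ 0 := by rwa [one_smul]
    have e1 := hline μ (t / c) hne
    have e2 := hline 1 (t / c) hc1
    rw [one_smul, ← hcdef, mul_div_cancel₀ _ hc] at e2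
    show par B L b ((par B L b (μ • w) / c * t) • w) / c =
      (par B L b (μ • w) / c) ^ 2 * (par B L b (t • w) / c)
    rw [show par B L b (μ • w) / c * t = par B L b (μ • w) * (t / c) by ring, e1, e2]
    field_simp
  obtain ⟨μ, hμ⟩ := (Finite.injective_iff_surjective.1 ginj) r
  have := key μ 1
  rw [mul_one, hμ, g1, mul_one] at this
  exact (div_eq_iff hc).1 this

theorem par_smul [FiniteDimensional F V] [Finite F] {w : V} (hwa : B a w = 0) (hwb : B b w = 0) (r : F) :
    par B L b (r • w) = r ^ 2 * par B L b w := by
  by_cases hc : par B L b w = 0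
  · rw [hc, mul_zero]
    by_contra h
    rcases eq_or_ne r 0 with rfl | hr
    · rw [zero_smul, S.par_zero h2 hb] at h; exact h rfl
    refine S.par_kernel h2 ha hb hab (w := r • w) (μ := r⁻¹) (by rw [map_smul, hwa, smul_zero])
      (by rw [map_smul, hwb, smul_zero]) h (inv_ne_zero hr) ?_
    rwa [smul_smul, inv_mul_cancel₀ hr, one_smul]
  · exact S.par_smul_of_ne h2 ha hb hab hwa hwb hc r

theorem par_eq_of_ne [FiniteDimensional F V] [Finite F] {w : V} (hwa : B a w = 0) (hwb : B b w = 0)
    (hc : par B L b w ≠ 0) : par B L a w = par B L b w := by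
  have := S.conj_par h2 ha hb hab hwa hwb hwa hwb hc
  rw [S.self, zero_smul, add_zero, S.par_smul h2 ha hb hab hwa hwb] at this
  exact (mul_left_cancel₀ (pow_ne_zero 2 hc) this).symm

theorem par_comm [FiniteDimensional F V] [Finite F] {w : V} (hwa : B a w = 0) (hwb : B b w = 0) :
    par B L a w = par B L b w := by
  by_cases hc : par B L b w = 0
  · by_contra h
    exact h (S.par_eq_of_ne h2 hb ha (by rw [S.sym, hab]) hwb hwa (by rwa [hc] at h)).symm
  · exact S.par_eq_of_ne h2 ha hb hab hwa hwb hc

end pair

/-- The quadratic form. -/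
theorem exists_form [FiniteDimensional F V] [Finite F] :
    ∃ Q : QuadraticForm F V, (∀ x y, polar Q x y = B x y) ∧ (∀ x, Pts L a₀ x ↔ x ≠ 0 ∧ Q x = 0) ∧
      ∀ g ∈ L, ∀ x, Q (g x) = Q x := by
  obtain ⟨b, hb, hab⟩ := S.exists_partner S.ne
  set a := a₀ with hadef
  have ha : Pts L a a := S.base
  have hba : B b a = 1 := by rw [S.sym, hab]
  set w : V → V := perpPart B a b with hwdef
  have hwa : ∀ x, B a (w x) = 0 := fun x => by
    simp only [hwdef, perpPart, map_add, map_smul, S.self, hab, smul_eq_mul, mul_zero, add_zero, mul_one,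
      CharTwo.add_self_eq_zero]
  have hwb : ∀ x, B b (w x) = 0 := fun x => by
    simp only [hwdef, perpPart, map_add, map_smul, S.self, hba, smul_eq_mul, mul_zero, add_zero, mul_one,
      CharTwo.add_self_eq_zero]
  have hdec : ∀ x, x = w x + B b x • a + B a x • b := fun x => by
    simp only [hwdef, perpPart]
    calc x = x + ((B b x • a + B b x • a) + (B a x • b + B a x • b)) := by
          rw [vadd_self F, vadd_self F, add_zero, add_zero]
      _ = _ := by abel
  have hBw : ∀ x y, B (w x) (w y) = B x y + B b x * B a y + B a x * B b y := fun x y => by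
    rw [show B (w x) (w y) = B (w x) (y + B b y • a + B a y • b) from rfl, map_add, map_add, map_smul, map_smul,
      S.sym (w x) a, hwa, S.sym (w x) b, hwb, smul_zero, smul_zero, add_zero, add_zero,
      show B (w x) y = B (x + B b x • a + B a x • b) y from rfl]
    simp only [map_add, map_smul, LinearMap.add_apply, LinearMap.smul_apply, smul_eq_mul]
  let f : V → F := fun x => B a x * B b x + par B L a (w x)
  have hpolar : ∀ x y, QuadraticMap.polar f x y = B x y := fun x y => by
    simp only [QuadraticMap.polar, f]
    rw [hwdef, perpPart_add, ← hwdef, S.par_add h2 ha (hwa x) (hwa y), hBw, map_add, map_add]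
    linear_combination CharTwo.two_eq_zero (R := F) * (B b x * B a y + B a x * B b y)
  have hsm : ∀ (r : F) (x : V), f (r • x) = (r * r) • f x := fun r x => by
    have e : w (r • x) = r • w x := perpPart_smul B a b x r
    simp only [f]
    rw [e, S.par_comm h2 ha hb hab (by rw [map_smul, hwa, smul_zero]) (by rw [map_smul, hwb, smul_zero]),
      S.par_smul h2 ha hb hab (hwa x) (hwb x), S.par_comm h2 ha hb hab (hwa x) (hwb x), map_smul, map_smul,
      smul_eq_mul, smul_eq_mul, smul_eq_mul]
    ring
  let Q : QuadraticForm F V := QuadraticMap.ofPolar f hsm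
    (fun x x' y => by rw [hpolar, hpolar, hpolar, map_add, LinearMap.add_apply])
    (fun r x y => by rw [hpolar, hpolar, map_smul, LinearMap.smul_apply])
  have hQf : ∀ x, Q x = f x := fun x => rfl
  have hQp : ∀ x y, polar Q x y = B x y := hpolar
  have hQsm : ∀ (r : F) x, Q (r • x) = r * r * Q x := fun r x => hsm r x
  have hpts : ∀ x, Pts L a x ↔ x ≠ 0 ∧ Q x = 0 := by
    intro x
    constructor
    · intro hx
      refine ⟨S.pts_ne hx, ?_⟩
      rw [hQf]
      rcases eq_or_ne (B a x) 0 with h0 | h0
      · simp only [f, h0, zero_mul, zero_add]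
        by_contra hne
        have hne' : par B L b (w x) ≠ 0 := by rwa [← S.par_comm h2 ha hb hab (hwa x) (hwb x)]
        have hind : x ∉ Submodule.span F ({a} : Set V) := fun h => by
          obtain ⟨r, hr⟩ := Submodule.mem_span_singleton.1 h
          refine hne ?_
          have : w x = 0 := by
            simp only [hwdef, perpPart]
            rw [← hr, map_smul, map_smul, hba, S.self, smul_zero, zero_smul, add_zero, smul_eq_mul, mul_one,
              vadd_self F]
          rw [this]; exact S.par_zero h2 ha
        have hw : Pts L a (w x) := by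
          have := S.perp_line ha hx h0 hind (B b x)
          convert this using 1
          simp only [hwdef, perpPart, h0, zero_smul, add_zero]
        set c := par B L b (w x) with hcdef
        have hp := S.pts_has (S.has_par h2 hb (hwb x)) ha
        rw [S.siegel_partner hba, S.sym (w x) a, hwa, zero_add, ← hcdef] at hp
        have hperp2 : B (w x) (a + w x + c • b) = 0 := by
          rw [map_add, map_add, S.sym (w x) a, hwa, S.self, map_smul, S.sym (w x) b, hwb, smul_zero, add_zero,
            add_zero]
        have hind2 : a + w x + c • b ∉ Submodule.span F ({w x} : Set V) := fun h => by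
          obtain ⟨r, hr'⟩ := Submodule.mem_span_singleton.1 h
          have := congrArg (B b) hr'
          rw [map_smul, hwb, smul_zero, map_add, map_add, hba, hwb, map_smul, S.self, smul_zero, add_zero,
            add_zero] at this
          exact one_ne_zero this.symm
        have hl := S.pts_smul (S.perp_line hw hp hperp2 hind2 1) (inv_ne_zero hne')
        rw [one_smul, show a + w x + c • b + w x = (w x + w x) + (c • b + a) by abel, vadd_self F, zero_add,
          smul_add, smul_smul, inv_mul_cancel₀ hne', one_smul] at hl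
        exact inv_ne_zero hne' (S.two h2 ha hb hab hl)
      · set β := B a x with hβ
        have hu1 : B a (β⁻¹ • x) = 1 := by rw [map_smul, ← hβ, smul_eq_mul, inv_mul_cancel₀ h0]
        have huP : Pts L a (β⁻¹ • x) := S.pts_smul hx (inv_ne_zero h0)
        set u := β⁻¹ • x with hudef
        have hp := S.pts_has (S.has_par h2 ha (hwa u)) hb
        rw [S.siegel_partner hab, S.sym (w u) b, hwb, zero_add] at hp
        have h1 : B a (b + w u + par B L a (w u) • a) = 1 := by
          rw [map_add, map_add, hab, hwa, map_smul, S.self, smul_zero, add_zero, add_zero]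
        have := S.two h2 ha hp h1 (ν := par B L a (w u) + B b u) (by
          convert huP using 1
          conv_rhs => rw [hdec u, hu1, one_smul]
          rw [add_smul, add_assoc _ (par B L a (w u) • a), ← add_assoc (par B L a (w u) • a), vadd_self F,
            zero_add]
          abel)
        have hfu : f u = 0 := by
          simp only [f, hu1, one_mul]
          rw [add_comm]; exact this
        have := hsm β u
        rw [hfu, smul_zero, hudef, smul_smul, mul_inv_cancel₀ h0, one_smul] at this
        exact this
    · rintro ⟨hx0, hx⟩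
      rw [hQf] at hx
      rcases eq_or_ne (B a x) 0 with h0 | h0
      · simp only [f, h0, zero_mul, zero_add] at hx
        have hx' : x = w x + B b x • a := by
          have := hdec x
          rwa [h0, zero_smul, add_zero] at this
        rcases eq_or_ne (w x) 0 with hw0 | hw0
        · rw [hw0, zero_add] at hx'
          rw [hx']
          exact S.pts_smul ha fun h => hx0 (by rw [hx', h, zero_smul])
        have hx2 : par B L b (w x) = 0 := by rw [← S.par_comm h2 ha hb hab (hwa x) (hwb x), hx]
        have hr := S.pts_has (S.has_par h2 hb (hwb x)) ha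
        rw [S.siegel_partner hba, hx2, add_zero, S.sym (w x) a, hwa, zero_smul, add_zero] at hr
        have hperp : B a (a + w x) = 0 := by rw [map_add, S.self, hwa, add_zero]
        have hind : a + w x ∉ Submodule.span F ({a} : Set V) := fun h => by
          obtain ⟨r, hr'⟩ := Submodule.mem_span_singleton.1 h
          have := congrArg (B b) hr'
          rw [map_smul, hba, map_add, hba, hwb, add_zero, smul_eq_mul, mul_one] at this
          subst this
          rw [one_smul, left_eq_add] at hr'
          exact hw0 hr'
        have h3 := S.perp_line ha hr hperp hind (1 + B b x)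
        convert h3 using 1
        rw [add_smul, one_smul]
        conv_lhs => rw [hx']
        calc w x + B b x • a = (a + a) + (w x + B b x • a) := by rw [vadd_self F, zero_add]
          _ = _ := by abel
      · set β := B a x with hβ
        set u := β⁻¹ • x with hudef
        have hu1 : B a u = 1 := by rw [hudef, map_smul, ← hβ, smul_eq_mul, inv_mul_cancel₀ h0]
        have hfu : f u = 0 := by rw [hudef, hsm, hx, smul_zero]
        simp only [f, hu1, one_mul] at hfu
        have hp := S.pts_has (S.has_par h2 ha (hwa u)) hb
        rw [S.siegel_partner hab, S.sym (w u) b, hwb, zero_add] at hp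
        have e : b + w u + par B L a (w u) • a = u := by
          rw [← CharTwo.add_eq_zero.1 hfu]
          conv_rhs => rw [hdec u, hu1, one_smul]
          abel
        rw [e] at hp
        have := S.pts_smul hp h0
        rwa [hudef, smul_smul, mul_inv_cancel₀ h0, one_smul] at this
  refine ⟨Q, hQp, hpts, fun g hg => ?_⟩
  have hQadd : ∀ x y, Q (x + y) = Q x + Q y + B x y := fun x y => by
    rw [← hQp, QuadraticMap.polar]; ring
  intro x
  have hx : x ∈ Submodule.span F {p | Pts L a p} := by rw [S.span_pts]; trivial
  induction hx using Submodule.span_induction with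
  | mem p hp => rw [((hpts p).1 hp).2, ((hpts _).1 (S.pts_map hp hg)).2]
  | zero => rw [map_zero]
  | add x y _ _ hx hy => rw [map_add, hQadd, hQadd, hx, hy, S.iso hg]
  | smul r x _ hx => rw [map_smul, hQsm, hQsm, hx]

end Setup

end Cfsg.Agent.ElatFree
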