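import Cfsg.Agent.ElatFree.ThreeLine

/-!
The normal 2-subgroups of the stabiliser of a vector consist of Siegel elements; a complement to the elations of the
expected order is full.
-/

set_option autoImplicit false

namespace Cfsg.Agent.ElatFree

open Module

variable {F V : Type*} [Field F] [CharP F 2] [AddCommGroup V] [Module F V] {B : LinearMap.BilinForm F V}

theorem linear_ext_hyp {f g : V →ₗ[F] V} {a b : V} (hab : B a b = 1) (hb : f b = g b)
    (hperp : ∀ x, B a x = 0 → f x = g x) : f = g := by
  refine LinearMap.ext fun u => ?_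
  have h : B a (u + B a u • b) = 0 := by
    rw [map_add, map_smul, hab, smul_eq_mul, mul_one, CharTwo.add_self_eq_zero]
  have hu : u = (u + B a u • b) + B a u • b := by rw [add_assoc, vadd_self F, add_zero]
  rw [hu, map_add f _ (B a u • b), map_add g _ (B a u • b), map_smul f (B a u) b, map_smul g (B a u) b,
    hperp _ h, hb]

theorem siegel_of_radical [FiniteDimensional F V] (hA : B.IsAlt) (hB : B.Nondegenerate) {a : V} (ha : a ≠ 0)
    (N : Subgroup (V ≃ₗ[F] V)) (hN : ∀ g ∈ N, g ∈ Classical.Alt.isoGroup B ∧ g a = a ∧ ∃ m : ℕ, g ^ 2 ^ m = 1)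
    (hconj : ∀ h ∈ Classical.Alt.isoGroup B, h a = a → ∀ g ∈ N, h * g * h⁻¹ ∈ N) {g : V ≃ₗ[F] V} (hg : g ∈ N) :
    ∃ d c, B a d = 0 ∧ ∀ u, g u = siegelFun B a d c u := by
  have sym := symm' hA
  have self := hA.self_eq_zero
  have tfix : ∀ w : V, B a w = 0 → Classical.Alt.tv hA w (1 : F) a = a := fun w hw => by
    rw [Classical.Alt.tv_apply, hw, mul_zero, zero_smul, add_zero]
  have E1 : ∀ k ∈ N, ∀ w, B a w = 0 → B (k w) w = 0 := fun k hk w hw => by
    by_contra hne
    set p := k w with hp
    set β := B p w with hβ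
    set t := Classical.Alt.tv hA w (1 : F) with ht
    have h1 : t * k⁻¹ * t⁻¹ ∈ N := hconj t (Classical.Alt.tv_mem_isoGroup hA w 1) (tfix w hw) _ (inv_mem hk)
    have htt : t⁻¹ = t := by rw [ht, Classical.Alt.tv_inv, CharTwo.neg_eq]
    obtain ⟨hkiso, -, -⟩ := hN k hk
    set K := k * (t * k⁻¹ * t⁻¹) with hK
    obtain ⟨-, -, m, hm⟩ := hN K (mul_mem hk h1)
    have hKeq : K = Classical.Alt.tv hA p (1 : F) * t := by
      rw [hK, ← Classical.Alt.conj_tv hA hkiso w 1, ← ht]
      rw [htt]
      group
    have htw : t w = w := by rw [ht, Classical.Alt.tv_apply, self, mul_zero, zero_smul, add_zero]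
    have htp : t p = p + β • w := by rw [ht, Classical.Alt.tv_apply, one_mul]
    have htv : ∀ z, Classical.Alt.tv hA p (1 : F) z = z + B z p • p := fun z => by
      rw [Classical.Alt.tv_apply, one_mul]
    have hKw : K w = w + β • p := by rw [hKeq, LinearEquiv.mul_apply, htw, htv, sym w p]
    have hKp : K p = p + β • (w + β • p) := by
      rw [hKeq, LinearEquiv.mul_apply, htp, htv, map_add, LinearMap.add_apply, self, LinearMap.map_smul₂, sym w p,
        zero_add, smul_add, smul_smul, smul_eq_mul, add_assoc]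
    have hKK : K (K w) = (β * β) • K w + w := by
      rw [hKw, map_add, map_smul, hKw, hKp]
      simp only [smul_add, smul_smul]
      calc w + β • p + (β • p + ((β * β) • w + (β * (β * β)) • p))
          = (β • p + β • p) + ((β * β) • w + (β * (β * β)) • p + w) := by abel
        _ = _ := by rw [vadd_self F, zero_add, mul_assoc]
    have key : ∀ i : ℕ, ∃ A C : F, A ≠ 0 ∧ (K ^ 2 ^ i) w = A • K w + C • w := by
      intro i
      induction i with
      | zero => exact ⟨1, 0, one_ne_zero, by simp⟩
      | succ i ih =>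
        obtain ⟨A, C, hA0, e⟩ := ih
        refine ⟨A * A * (β * β), A * A + C * C,
          mul_ne_zero (mul_ne_zero hA0 hA0) (mul_ne_zero hne hne), ?_⟩
        have hcomm : (K ^ 2 ^ i) (K w) = K ((K ^ 2 ^ i) w) := by
          rw [← LinearEquiv.mul_apply, ← LinearEquiv.mul_apply, ← pow_succ, ← pow_succ']
        rw [pow_succ, Nat.mul_two, pow_add, LinearEquiv.mul_apply, e, map_add, map_smul, map_smul, hcomm, e,
          map_add, map_smul, map_smul, hKK]
        simp only [smul_add, smul_smul]
        calc (A * (A * (β * β))) • K w + (A * A) • w + (A * C) • K w + ((C * A) • K w + (C * C) • w)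
            = (A * A * (β * β)) • K w + (A * A + C * C) • w + ((A * C) • K w + (C * A) • K w) := by
              rw [mul_assoc A A (β * β), add_smul]; abel
          _ = _ := by rw [mul_comm C A, vadd_self F, add_zero]
    obtain ⟨A, C, hA0, e⟩ := key m
    rw [hm, hKw] at e
    have e' := congrArg (fun z => B z w) e
    simp only [LinearEquiv.coe_one, id_eq, map_add, map_smul, LinearMap.add_apply, LinearMap.smul_apply, self,
      smul_eq_mul, mul_zero, zero_add, add_zero] at e'
    exact mul_ne_zero hA0 (mul_ne_zero hne hne) e'.symm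
  have E2 : ∀ k ∈ N, ∀ w, B a w = 0 → ∃ l μ : F, k w = l • w + μ • a := fun k hk w hw => by
    obtain ⟨hkiso, hka, -⟩ := hN k hk
    by_cases hwa : w ∈ Submodule.span F ({a} : Set V)
    · obtain ⟨r, rfl⟩ := Submodule.mem_span_singleton.1 hwa
      exact ⟨1, 0, by rw [map_smul, hka, one_smul, zero_smul, add_zero]⟩
    by_contra hno
    push Not at hno
    set p := k w with hp
    have hpw : B p w = 0 := E1 k hk w hw
    have hS : w ∉ Submodule.span F ({a} : Set V) ⊔ Submodule.span F {p} := fun h => by
      obtain ⟨x, hx, y, hy, e⟩ := Submodule.mem_sup.1 h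
      obtain ⟨r, rfl⟩ := Submodule.mem_span_singleton.1 hx
      obtain ⟨s, rfl⟩ := Submodule.mem_span_singleton.1 hy
      rcases eq_or_ne s 0 with rfl | hs
      · rw [zero_smul, add_zero] at e
        exact hwa (Submodule.mem_span_singleton.2 ⟨r, e⟩)
      · refine hno s⁻¹ (s⁻¹ * r) ?_
        rw [← e, smul_add, smul_smul, smul_smul, inv_mul_cancel₀ hs, one_smul]
        calc p = p + ((s⁻¹ * r) • a + (s⁻¹ * r) • a) := by rw [vadd_self F, add_zero]
          _ = _ := by abel
    obtain ⟨r, hr1, hr0⟩ := exists_functional hB hS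
    have har : B a r = 0 := hr0 a (Submodule.mem_sup_left (Submodule.mem_span_singleton_self a))
    have hpr : B p r = 0 := hr0 p (Submodule.mem_sup_right (Submodule.mem_span_singleton_self p))
    set h := Classical.Alt.tv hA r (1 : F) with hh
    have hgN : k⁻¹ * (h * k * h⁻¹) ∈ N :=
      mul_mem (inv_mem hk) (hconj h (Classical.Alt.tv_mem_isoGroup hA r 1) (tfix r har) k hk)
    have hw2 : B a (w + r) = 0 := by rw [map_add, hw, har, add_zero]
    have := E1 _ hgN (w + r) hw2
    have e1 : (k⁻¹ * (h * k * h⁻¹)) (w + r) = w := by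
      have e2 : h⁻¹ (w + r) = w := by
        rw [hh, Classical.Alt.tv_inv, CharTwo.neg_eq, Classical.Alt.tv_apply, one_mul, map_add,
          LinearMap.add_apply, hr1, self, add_zero, one_smul, add_assoc, vadd_self F, add_zero]
      simp only [LinearEquiv.mul_apply]
      rw [e2, ← hp, hh, Classical.Alt.tv_apply, one_mul, hpr, zero_smul, add_zero, hp,
        Classical.Alt.inv_apply_self]
    rw [e1, map_add, self, zero_add, hr1] at this
    exact one_ne_zero this
  obtain ⟨hgiso, hga, -⟩ := hN g hg
  have hgiso' : ∀ x y, B (g x) (g y) = B x y := hgiso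
  have E3 : ∀ w, B a w = 0 → ∃ μ : F, g w = w + μ • a := fun w hw => by
    by_cases hwa : w ∈ Submodule.span F ({a} : Set V)
    · obtain ⟨r, rfl⟩ := Submodule.mem_span_singleton.1 hwa
      exact ⟨0, by rw [map_smul, hga, zero_smul, add_zero]⟩
    obtain ⟨w', hw'1, hw'0⟩ := exists_functional hB hwa
    have hw' : B a w' = 0 := hw'0 a (Submodule.mem_span_singleton_self a)
    have hww : B a (w + w') = 0 := by rw [map_add, hw, hw', add_zero]
    obtain ⟨l, μ, e⟩ := E2 g hg w hw
    obtain ⟨l', μ', e'⟩ := E2 g hg w' hw'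
    obtain ⟨l'', μ'', e''⟩ := E2 g hg (w + w') hww
    have h1 := hgiso' w w'
    have h2 := hgiso' w (w + w')
    have h3 := hgiso' w' (w + w')
    rw [e, e'] at h1
    rw [e, e''] at h2
    rw [e', e''] at h3
    simp only [map_add, map_smul, LinearMap.add_apply, LinearMap.smul_apply, self, sym w a, sym w' a, hw, hw',
      sym w' w, hw'1, smul_eq_mul, mul_zero, add_zero, zero_add, mul_one] at h1 h2 h3
    have hl : l = 1 := by
      have hl0 : l ≠ 0 := fun h => by rw [h] at h1; simp at h1
      have hll : l'' = l' := mul_right_cancel₀ hl0 (by rw [mul_comm l'' l, mul_comm l' l]; linear_combination h2 - h1)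
      have hsq : (l' + 1) * (l' + 1) = 0 := by
        rw [hll] at h3
        linear_combination h3 + (l' + 1) * CharTwo.two_eq_zero (R := F)
      have hl' : l' = 1 := CharTwo.add_eq_zero.1 (mul_self_eq_zero.1 hsq)
      rw [hl'] at h1
      linear_combination h1
    exact ⟨μ, by rw [e, hl, one_smul]⟩
  obtain ⟨b, hab, -⟩ := exists_functional hB (S := (⊥ : Submodule F V))
    (show a ∉ (⊥ : Submodule F V) from fun h => ha ((Submodule.mem_bot F).1 h))
  set d := g b + b with hd
  have had : B a d = 0 := by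
    rw [hd, map_add, hab]
    have := hgiso' a b
    rw [hga, hab] at this
    rw [this, CharTwo.add_self_eq_zero]
  have hgb : g b = b + d := by
    rw [hd, ← add_assoc, add_comm b (g b), add_assoc, vadd_self F, add_zero]
  refine ⟨d, B d b, had, fun u => ?_⟩
  let S : V →ₗ[F] V := LinearMap.id + (B a).smulRight d + (B d).smulRight a + (B d b • B a).smulRight a
  have hS : ∀ x, S x = siegelFun B a d (B d b) x := fun x => by simp [S, siegelFun]
  have key : (g : V →ₗ[F] V) = S := by
    refine linear_ext_hyp hab ?_ fun x hx => ?_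
    · rw [LinearEquiv.coe_coe, hgb, hS, siegelFun, hab, one_smul, mul_one, add_assoc (b + d), vadd_self F, add_zero]
    · obtain ⟨μ, hμ⟩ := E3 x hx
      have h := hgiso' b x
      rw [hgb, hμ] at h
      simp only [map_add, map_smul, LinearMap.add_apply, sym b a, hab, sym d a, had, smul_eq_mul, mul_one,
        mul_zero, add_zero] at h
      have : μ = B d x := CharTwo.add_eq_zero.1 (by linear_combination h)
      rw [LinearEquiv.coe_coe, hμ, hS, siegelFun, hx, zero_smul, add_zero, mul_zero, zero_smul, add_zero, this]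
  rw [← hS, ← key]
  rfl

/-- An elation-free subgroup of the expected order contains an element in every direction. -/
theorem complement_full [Finite F] [FiniteDimensional F V] (hA : B.IsAlt) (hB : B.Nondegenerate) {a : V}
    (ha : a ≠ 0) {n : ℕ} (hd : finrank F V = 2 * n) (X : Subgroup (V ≃ₗ[F] V))
    (hX : ∀ x ∈ X, ∃ d c, B a d = 0 ∧ ∀ u, x u = siegelFun B a d c u)
    (hfree : ∀ x ∈ X, ∀ c, (∀ u, x u = siegelFun B a 0 c u) → c = 0)
    (hcard : Nat.card X = Nat.card F ^ (2 * n - 2)) {v : V} (hv : B a v = 0) :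
    ∃ c, Has B X a v c := by
  have : Finite V := Module.finite_of_finite F
  have : Finite (V ≃ₗ[F] V) := Finite.of_injective (fun f => (f : V → V)) DFunLike.coe_injective
  obtain ⟨b, hab, -⟩ := exists_functional hB (S := (⊥ : Submodule F V))
    (show a ∉ (⊥ : Submodule F V) from fun h => ha ((Submodule.mem_bot F).1 h))
  let U : Submodule F V := Submodule.span F {a}
  have hU : U ≤ LinearMap.ker (B a) := by
    rw [Submodule.span_le, Set.singleton_subset_iff]
    exact hA.self_eq_zero a
  let ψ : (V ⧸ U) →ₗ[F] F := U.liftQ (B a) hU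
  choose d c hda hx using hX
  have hdiff : ∀ (x : V ≃ₗ[F] V) (h : x ∈ X), ∃ t : F, x b + b = d x h + t • a := fun x h => by
    refine ⟨B (d x h) b + c x h, ?_⟩
    rw [hx x h b, siegelFun, hab, one_smul, mul_one, add_smul]
    calc b + d x h + B (d x h) b • a + c x h • a + b = (b + b) + (d x h + (B (d x h) b • a + c x h • a)) := by abel
      _ = _ := by rw [vadd_self F, zero_add]
  let f : X → LinearMap.ker ψ := fun x => ⟨U.mkQ (x.1 b + b), by
    obtain ⟨t, ht⟩ := hdiff x.1 x.2
    rw [LinearMap.mem_ker, Submodule.mkQ_apply, Submodule.liftQ_apply, ht, map_add, hda, map_smul,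
      hA.self_eq_zero, smul_zero, add_zero]⟩
  have hmem : ∀ {z : V}, z ∈ U → ∃ t : F, t • a = z := fun hz => Submodule.mem_span_singleton.1 hz
  have finj : Function.Injective f := by
    intro x y hxy
    have h : U.mkQ (x.1 b + b) = U.mkQ (y.1 b + b) := congrArg Subtype.val hxy
    obtain ⟨t, ht⟩ := hdiff x.1 x.2
    obtain ⟨t', ht'⟩ := hdiff y.1 y.2
    rw [Submodule.mkQ_apply, Submodule.mkQ_apply, Submodule.Quotient.eq, ht, ht'] at h
    obtain ⟨r, hr⟩ := hmem h
    have hdy : d y.1 y.2 = d x.1 x.2 + (t + r + t') • a := by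
      have e : d x.1 x.2 = d y.1 y.2 + t' • a + r • a - t • a := by rw [hr]; abel
      rw [e, sub_eq_add_neg, ← neg_smul, CharTwo.neg_eq, add_smul, add_smul]
      calc d y.1 y.2 = d y.1 y.2 + ((t' • a + t' • a) + (r • a + r • a) + (t • a + t • a)) := by
            simp only [vadd_self F, add_zero]
        _ = _ := by abel
    have hy' : ∀ u, y.1 u = siegelFun B a (d x.1 x.2) (c y.1 y.2) u := fun u => by
      rw [hx y.1 y.2, hdy, siegelFun_shift hA]
    have hprod : ∀ u, (x.1 * y.1) u = siegelFun B a 0 (c x.1 x.2 + c y.1 y.2) u := fun u => by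
      rw [LinearEquiv.mul_apply, hy', hx x.1 x.2, siegelFun_comp hA (hda _ _) (hda _ _), vadd_self F,
        hA.self_eq_zero, add_zero]
    have h0 := hfree _ (mul_mem x.2 y.2) _ hprod
    refine Subtype.ext (LinearEquiv.ext fun u => ?_)
    rw [hx x.1 x.2, hy', CharTwo.add_eq_zero.1 h0]
  have hψ : Function.Surjective ψ := fun r => ⟨U.mkQ (r • b), by
    show ψ _ = r
    rw [Submodule.mkQ_apply, Submodule.liftQ_apply, map_smul, hab, smul_eq_mul, mul_one]⟩
  have hker : finrank F (LinearMap.ker ψ) = 2 * n - 2 := by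
    have h1 := LinearMap.finrank_range_add_finrank_ker ψ
    rw [LinearMap.range_eq_top.2 hψ, finrank_top, Module.finrank_self] at h1
    have h2 := Submodule.finrank_quotient_add_finrank U
    rw [finrank_span_singleton ha, hd] at h2
    omega
  have : Finite (V ⧸ U) := Finite.of_surjective _ U.mkQ_surjective
  have hc : Nat.card X = Nat.card (LinearMap.ker ψ) := by
    rw [hcard, Module.natCard_eq_pow_finrank (K := F) (V := LinearMap.ker ψ), hker]
  obtain ⟨x, hxv⟩ := ((Nat.bijective_iff_injective_and_card f).2 ⟨finj, hc⟩).2 ⟨U.mkQ v, by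
    rw [LinearMap.mem_ker, Submodule.mkQ_apply, Submodule.liftQ_apply, hv]⟩
  have h : U.mkQ (x.1 b + b) = U.mkQ v := congrArg Subtype.val hxv
  obtain ⟨t, ht⟩ := hdiff x.1 x.2
  rw [Submodule.mkQ_apply, Submodule.mkQ_apply, Submodule.Quotient.eq, ht] at h
  obtain ⟨r, hr⟩ := hmem h
  have hvd : v = d x.1 x.2 + (t + r) • a := by
    have e : v = d x.1 x.2 + t • a - r • a := by rw [hr]; abel
    rw [e, sub_eq_add_neg, ← neg_smul, CharTwo.neg_eq, add_smul, add_assoc]
  exact ⟨c x.1 x.2, hv, x.1, x.2, fun u => by rw [hx x.1 x.2, hvd, siegelFun_shift hA]⟩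

end Cfsg.Agent.ElatFree
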