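import Cfsg.Agent.ElatFree.ThreeLine
import Cfsg.Agent.Classical.SymmTwo
import Cfsg.Agent.PermGroups.Six

/-!
Dimension four over the field with two elements, with every point in the orbit.
-/

set_option autoImplicit false

namespace Cfsg.Agent.ElatFree

open Module Equiv

theorem fifteen : ∀ σ : Perm (Fin 6), σ ^ 15 = 1 → σ ^ 5 = 1 ∨ σ ^ 3 = 1 := by decide +kernel

theorem exists_order_fifteen {K : Type*} [Group K] [Finite K] (hK : Nat.card K = 15) : ∃ g : K, orderOf g = 15 := by
  have one : ∀ (p : ℕ) [Fact p.Prime], p = 3 ∨ p = 5 → Nat.card (Sylow p K) = 1 := fun p _ hp => by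
    have h1 := card_sylow_modEq_one p K
    have h2 : Nat.card (Sylow p K) ∣ 15 := hK ▸ (Sylow.card_dvd_index (default : Sylow p K)).trans
      (Subgroup.index_dvd_card _)
    have h3 : Nat.card (Sylow p K) ≤ 15 := Nat.le_of_dvd (by norm_num) h2
    rcases hp with rfl | rfl <;> interval_cases h : Nat.card (Sylow _ K) <;> revert h1 h2 <;> decide
  have : Fact (Nat.Prime 3) := ⟨by norm_num⟩
  have : Fact (Nat.Prime 5) := ⟨by norm_num⟩
  obtain ⟨a, ha⟩ := exists_prime_orderOf_dvd_card' (G := K) 3 (by rw [hK]; norm_num)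
  obtain ⟨b, hb⟩ := exists_prime_orderOf_dvd_card' (G := K) 5 (by rw [hK]; norm_num)
  have nrm : ∀ (p : ℕ) [Fact p.Prime], p = 3 ∨ p = 5 → ∀ x : K, orderOf x = p → (Subgroup.zpowers x).Normal :=
    fun p _ hp x hx => by
      obtain ⟨P, hP⟩ := (IsPGroup.of_card (p := p) (n := 1)
        (by rw [Nat.card_zpowers, hx, pow_one]) : IsPGroup p (Subgroup.zpowers x)).exists_le_sylow
      have hc : Nat.card P = p := by
        rw [Sylow.card_eq_multiplicity, hK]
        rcases hp with rfl | rfl <;>
          · rw [show (15 : ℕ) = 3 * 5 from rfl, Nat.factorization_mul (by norm_num) (by norm_num),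
              Nat.Prime.factorization (by norm_num), Nat.Prime.factorization (by norm_num)]
            simp
      have e : Subgroup.zpowers x = (P : Subgroup K) :=
        Subgroup.eq_of_le_of_card_ge hP (by rw [Nat.card_zpowers, hx, hc])
      have : Subsingleton (Sylow p K) := Finite.card_le_one_iff_subsingleton.1 (le_of_eq (one p hp))
      rw [e]
      exact Sylow.normal_of_subsingleton P
  have hcomm : Commute a b := Subgroup.commute_of_normal_of_disjoint _ _ (nrm 3 (Or.inl rfl) a ha)
    (nrm 5 (Or.inr rfl) b hb)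
    (by
      rw [disjoint_iff]
      exact Subgroup.inf_eq_bot_of_coprime (by rw [Nat.card_zpowers, Nat.card_zpowers, ha, hb]; norm_num))
    a b (Subgroup.mem_zpowers a) (Subgroup.mem_zpowers b)
  exact ⟨a * b, by rw [hcomm.orderOf_mul_eq_mul_orderOf_of_coprime (by rw [ha, hb]; norm_num), ha, hb]⟩

theorem no_thirty (K : Subgroup (Perm (Fin 6))) : Nat.card K ≠ 30 := fun hK => by
  classical
  have : Fintype K := Fintype.ofFinite K
  let χ : K →* ℤˣ := Perm.sign.comp (MulAction.toPermHom K K)
  have : Fact (Nat.Prime 2) := ⟨by norm_num⟩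
  obtain ⟨z, hz⟩ := exists_prime_orderOf_dvd_card' (G := K) 2 (by rw [hK]; norm_num)
  have hχ : χ z = -1 := by
    have hinj : Function.Injective (MulAction.toPermHom K K) := MulAction.toPerm_injective
    set π := MulAction.toPermHom K K z with hπ
    have ho : orderOf π = 2 := by rw [hπ, orderOf_injective _ hinj, hz]
    obtain ⟨k, hk⟩ := Perm.cycleType_prime_order (σ := π) (ho.symm ▸ Nat.prime_two)
    have hsupp : π.support = Finset.univ := by
      ext x
      simp only [Perm.mem_support, Finset.mem_univ, iff_true]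
      intro h
      have h' : z * x = x := h
      rw [mul_eq_right.1 h', orderOf_one] at hz
      exact absurd hz (by norm_num)
    have hs := π.sum_cycleType
    rw [hk, ho, Multiset.sum_replicate, hsupp, Finset.card_univ, ← Nat.card_eq_fintype_card, hK, smul_eq_mul] at hs
    show Perm.sign π = -1
    rw [Perm.sign_of_cycleType, hk, ho, Multiset.sum_replicate, Multiset.card_replicate, smul_eq_mul, hs,
      show k + 1 = 15 by omega]
    decide
  have hsurj : Function.Surjective χ := fun u => by
    rcases Int.units_eq_one_or u with rfl | rfl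
    · exact ⟨1, map_one _⟩
    · exact ⟨z, hχ⟩
  have hker : Nat.card χ.ker = 15 := by
    have h := Subgroup.card_mul_index χ.ker
    rw [Subgroup.index_ker, MonoidHom.range_eq_top.2 hsurj, Subgroup.card_top, hK,
      Nat.card_eq_fintype_card (α := ℤˣ), Fintype.card_units_int] at h
    omega
  obtain ⟨g, hg⟩ := exists_order_fifteen hker
  have ho : orderOf ((g.1 : K) : Perm (Fin 6)) = 15 := by rw [Subgroup.orderOf_coe, Subgroup.orderOf_coe, hg]
  rcases fifteen _ (by rw [← ho]; exact pow_orderOf_eq_one _) with h | h <;>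
    · have := orderOf_dvd_of_pow_eq_one h
      rw [ho] at this
      norm_num at this

theorem stab_iso (x : Fin 6) :
    Nonempty (Perm (Fin 5) ≃* MulAction.stabilizer (Perm (Fin 6)) x) := by
  let f : Perm {y : Fin 6 // y ≠ x} →* MulAction.stabilizer (Perm (Fin 6)) x :=
    Perm.ofSubtype.codRestrict _ fun σ => by
      rw [MulAction.mem_stabilizer_iff, Perm.smul_def]
      exact Perm.ofSubtype_apply_of_not_mem σ (by simp)
  have finj : Function.Injective f := fun σ τ h => Perm.ofSubtype_injective (congrArg Subtype.val h)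
  have hfive : Nat.card {y : Fin 6 // y ≠ x} = 5 := by
    rw [Nat.card_eq_fintype_card, Fintype.card_subtype_compl]; simp
  have hc : Nat.card (Perm {y : Fin 6 // y ≠ x}) = Nat.card (MulAction.stabilizer (Perm (Fin 6)) x) := by
    have h := Subgroup.card_mul_index (MulAction.stabilizer (Perm (Fin 6)) x)
    rw [MulAction.index_stabilizer_of_transitive _ x, Nat.card_eq_fintype_card (α := Fin 6), Fintype.card_fin,
      Nat.card_perm, Nat.card_eq_fintype_card (α := Fin 6), Fintype.card_fin] at h
    rw [Nat.card_perm, hfive]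
    simp [Nat.factorial] at h ⊢
    omega
  obtain ⟨e⟩ : Nonempty (Fin 5 ≃ {y : Fin 6 // y ≠ x}) :=
    ⟨(Fintype.equivFinOfCardEq (by rw [← Nat.card_eq_fintype_card, hfive])).symm⟩
  exact ⟨e.permCongrHom.trans (MulEquiv.ofBijective f
    ((Nat.bijective_iff_injective_and_card f).2 ⟨finj, hc⟩))⟩

variable {F V : Type*} [Field F] [CharP F 2] [AddCommGroup V] [Module F V]
  {B : LinearMap.BilinForm F V} {L : Subgroup (V ≃ₗ[F] V)} {a₀ : V}

namespace Setup

variable (S : Setup B L a₀)
include S

theorem six [Finite F] [FiniteDimensional F V] (hq : Nat.card F = 2) (hd : finrank F V = 4)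
    (h3 : ThreeOnLine B L a₀) (X : Subgroup (V ≃ₗ[F] V)) (hXL : X ≤ L) (hXfix : ∀ x ∈ X, x a₀ = a₀)
    (hXcard : Nat.card X = 4) :
    Classical.Alt.isoGroup B ≤ L ∨ Nonempty (↥L ≃* ↥(alternatingGroup (Fin 6))) ∨
      Nonempty (↥L ≃* Perm (Fin 5)) := by
  classical
  have : Fintype F := Fintype.ofFinite F
  have : Finite V := Module.finite_of_finite F
  have : Finite (V ≃ₗ[F] V) := Finite.of_injective (fun f => (f : V → V)) DFunLike.coe_injective
  have hF : Fintype.card F = 2 := by rw [← Nat.card_eq_fintype_card]; exact hq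
  have hu : ∀ t : F, t ≠ 0 → t = 1 := fun t ht => by
    have := (Nat.card_eq_two_iff' (0 : F)).1 hq
    exact this.unique ht one_ne_zero
  obtain ⟨e₁⟩ := Classical.Symm2.exists_spEquiv (F := F) (n := 2) S.alt S.nondeg (by rw [hd])
  obtain ⟨e₂⟩ := Classical.Symm2.equiv_six (F := F) hF
  let ψ : Classical.Alt.isoGroup B ≃* Perm (Fin 6) := e₁.trans e₂
  let K : Subgroup (Perm (Fin 6)) := (L.subgroupOf (Classical.Alt.isoGroup B)).map ψ.toMonoidHom
  let eK : ↥L ≃* ↥K := (Subgroup.subgroupOfEquivOfLe S.le).symm.trans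
    ((L.subgroupOf (Classical.Alt.isoGroup B)).equivMapOfInjective _ ψ.injective)
  have hmemK : ∀ {g : Classical.Alt.isoGroup B}, g.1 ∈ L ↔ ψ g ∈ K := fun {g} =>
    ⟨fun h => ⟨g, h, rfl⟩, fun ⟨g', h, e⟩ => ψ.injective e ▸ h⟩
  have hall : ∀ y : V, y ≠ 0 → Pts L a₀ y := fun y hy => S.all_pts h3 (by omega) hy
  -- order
  have hsixty : 60 ∣ Nat.card L := by
    let St : Subgroup L := MulAction.stabilizer L a₀
    have horb : MulAction.orbit L a₀ = ({0} : Set V)ᶜ := by
      ext y
      constructor
      · rintro ⟨g, rfl⟩ h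
        exact S.ne (g.1.map_eq_zero_iff.1 h)
      · intro hy
        obtain ⟨g, hg, μ, hμ, rfl⟩ := hall y hy
        rw [hu μ hμ, one_smul]
        exact ⟨⟨g, hg⟩, rfl⟩
    have hV : Nat.card V = 16 := by rw [Module.natCard_eq_pow_finrank (K := F) (V := V), hq, hd]; rfl
    have horb' : Nat.card (MulAction.orbit L a₀) = 15 := by
      rw [horb, Nat.card_coe_set_eq, Set.ncard_compl, Set.ncard_singleton, hV]
    have h4 : 4 ∣ Nat.card St := by
      rw [← hXcard]
      exact Subgroup.card_dvd_of_injective
        (((X.inclusion fun x hx => hXL hx).codRestrict St) fun x => hXfix x.1 x.2)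
        fun x y h => Subgroup.inclusion_injective _ (congrArg Subtype.val h)
    have h := Subgroup.card_mul_index St
    rw [show St.index = 15 by rw [MulAction.index_stabilizer, ← Nat.card_coe_set_eq, horb']] at h
    obtain ⟨k, hk⟩ := h4
    exact ⟨k, by rw [← h, hk]; ring⟩
  have hKc : Nat.card K = Nat.card L := (Nat.card_congr eK.toEquiv).symm
  have hidx : Nat.card K * K.index = 720 := by
    rw [Subgroup.card_mul_index, Nat.card_perm, Nat.card_eq_fintype_card, Fintype.card_fin]; rfl
  have hk12 : K.index ∣ 12 := by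
    obtain ⟨k, hk⟩ := hsixty
    rw [hKc, hk] at hidx
    exact ⟨k, by linarith⟩
  have finish : K.index ≤ 2 ∨ K.index = 6 →
      Classical.Alt.isoGroup B ≤ L ∨ Nonempty (↥L ≃* ↥(alternatingGroup (Fin 6))) ∨
        Nonempty (↥L ≃* Perm (Fin 5)) := by
    intro h
    rcases h with h | h
    · by_cases hKt : K = ⊤
      · exact Or.inl fun g hg => hmemK.2 (show ψ ⟨g, hg⟩ ∈ K by rw [hKt]; trivial)
      · have h1 : K.index ≠ 1 := fun e => hKt (Subgroup.index_eq_one.1 e)
        have h0 : K.index ≠ 0 := Subgroup.index_ne_zero_of_finite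
        have hK2 := Perm.eq_alternatingGroup_of_index_eq_two (show K.index = 2 by omega)
        exact Or.inr (Or.inl ⟨eK.trans (MulEquiv.subgroupCongr hK2)⟩)
    · obtain ⟨θ, x, hθ⟩ := PermGroups.Sym.Six.exists_auto (α := Fin 6) (Fintype.card_fin 6) K h
      have hmap : K.map θ.toMonoidHom = MulAction.stabilizer (Perm (Fin 6)) x := by
        ext g
        rw [MulAction.mem_stabilizer_iff, Perm.smul_def]
        constructor
        · rintro ⟨g', hg', rfl⟩; exact (hθ g').1 hg'
        · intro hg; exact ⟨θ.symm g, (hθ _).2 (by rw [θ.apply_symm_apply]; exact hg), θ.apply_symm_apply g⟩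
      obtain ⟨e5⟩ := stab_iso x
      exact Or.inr (Or.inr ⟨eK.trans ((K.equivMapOfInjective _ θ.injective).trans
        ((MulEquiv.subgroupCongr hmap).trans e5.symm))⟩)
  -- transvections and parity
  let T : V → Classical.Alt.isoGroup B := fun v =>
    ⟨Classical.Alt.tv S.alt v 1, Classical.Alt.tv_mem_isoGroup S.alt v 1⟩
  have hE1 : ∀ a v : V, B a v = 0 → ∀ u, (T (a + v) * T v).1 u = siegelFun B a v 1 u := fun a v hav u => by
    show Classical.Alt.tv S.alt (a + v) 1 (Classical.Alt.tv S.alt v 1 u) = _
    have e : B (u + B u v • v) (a + v) = B a u + B v u := by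
      rw [LinearMap.map_add₂, LinearMap.map_smul₂, map_add, map_add (B v), S.sym v a, hav, S.self, add_zero,
        smul_zero, add_zero, S.sym u a, S.sym u v]
    rw [Classical.Alt.tv_apply, Classical.Alt.tv_apply, one_mul, one_mul, e, siegelFun, one_mul, S.sym u v,
      smul_add, add_smul, add_smul]
    calc u + B v u • v + (B a u • a + B v u • a + (B a u • v + B v u • v))
        = (B v u • v + B v u • v) + (u + B a u • v + B v u • a + B a u • a) := by abel
      _ = _ := by rw [vadd_self F, zero_add]
  have hE0 : ∀ a v : V, B a v = 0 → ∀ u, (T (a + v) * T v * T a).1 u = siegelFun B a v 0 u := fun a v hav u => by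
    show (T (a + v) * T v).1 ((T a).1 u) = _
    rw [hE1 a v hav]
    show siegelFun B a v 1 (Classical.Alt.tv S.alt a 1 u) = _
    simp only [Classical.Alt.tv_apply, one_mul, siegelFun, map_add, map_smul, S.self, S.sym v a, hav,
      smul_eq_mul, mul_zero, add_zero, S.sym u a, zero_mul, zero_smul]
    calc u + B a u • a + B a u • v + B v u • a + B a u • a
        = (B a u • a + B a u • a) + (u + B a u • v + B v u • a) := by abel
      _ = _ := by rw [vadd_self F, zero_add]
  let χ : Classical.Alt.isoGroup B →* ℤˣ := Perm.sign.comp ψ.toMonoidHom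
  have hconst : ∀ u w : V, u ≠ 0 → w ≠ 0 → χ (T u) = χ (T w) := fun u w hu0 hw0 => by
    obtain ⟨g, hg, hgu⟩ := Classical.Alt.exists_map_vector S.alt (Classical.Alt.ndon_top S.nondeg)
      (Submodule.mem_top (x := u)) (Submodule.mem_top (x := w)) hu0 hw0
    have hgi : g ∈ Classical.Alt.isoGroup B := Classical.Alt.TG_le_isoGroup S.alt _ hg
    have e : (⟨g, hgi⟩ : Classical.Alt.isoGroup B) * T u * ⟨g, hgi⟩⁻¹ = T w := Subtype.ext (by
      show g * Classical.Alt.tv S.alt u 1 * g⁻¹ = Classical.Alt.tv S.alt w 1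
      rw [Classical.Alt.conj_tv S.alt hgi, hgu])
    rw [← e, map_mul, map_mul, map_inv, mul_comm (χ ⟨g, hgi⟩), mul_inv_cancel_right]
  have hodd : ∀ v : V, v ≠ 0 → χ (T v) = -1 := fun v hv => by
    by_contra h
    have h1 : χ (T v) = 1 := (Int.units_eq_one_or _).resolve_right h
    have hall1 : ∀ g : Classical.Alt.isoGroup B, χ g = 1 := fun g => by
      have hg : g.1 ∈ Classical.Alt.TG B ⊤ := by rw [Classical.Alt.TG_top S.alt S.nondeg]; exact g.2
      have key : ∀ x (hx : x ∈ Classical.Alt.TG B ⊤), ∀ hxi : x ∈ Classical.Alt.isoGroup B, χ ⟨x, hxi⟩ = 1 := by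
        intro x hx
        induction hx using Subgroup.closure_induction with
        | mem x hx =>
          obtain ⟨w, -, c, hc⟩ := hx
          intro hxi
          rcases eq_or_ne (c • w) 0 with hcw | hcw
          · have : (⟨x, hxi⟩ : Classical.Alt.isoGroup B) = 1 := Subtype.ext (LinearEquiv.ext fun u => by
              show x u = u
              rw [hc, mul_comm c, mul_smul, hcw, smul_zero, add_zero])
            rw [this, map_one]
          · have hc0 : c ≠ 0 := fun h => hcw (by rw [h, zero_smul])
            have hw0 : w ≠ 0 := fun h => hcw (by rw [h, smul_zero])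
            have : (⟨x, hxi⟩ : Classical.Alt.isoGroup B) = T w := Subtype.ext (LinearEquiv.ext fun u => by
              show x u = Classical.Alt.tv S.alt w 1 u
              rw [hc, Classical.Alt.tv_apply, hu c hc0])
            rw [this, hconst w v hw0 hv, h1]
        | one => intro hxi; exact map_one χ
        | mul x y hx' hy' hx hy =>
          intro hxi
          have hxi' := Classical.Alt.TG_le_isoGroup S.alt _ hx'
          have hyi' := Classical.Alt.TG_le_isoGroup S.alt _ hy'
          rw [show (⟨x * y, hxi⟩ : Classical.Alt.isoGroup B) = ⟨x, hxi'⟩ * ⟨y, hyi'⟩ from rfl, map_mul, hx, hy,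
            one_mul]
        | inv x hx' hx =>
          intro hxi
          have hxi' := Classical.Alt.TG_le_isoGroup S.alt _ hx'
          rw [show (⟨x⁻¹, hxi⟩ : Classical.Alt.isoGroup B) = (⟨x, hxi'⟩)⁻¹ from rfl, map_inv, hx, inv_one]
      exact key g.1 hg g.2
    have := hall1 (ψ.symm (Equiv.swap 0 1))
    simp [χ] at this
  by_cases hzero : ∃ a v : V, a ≠ 0 ∧ v ∉ Submodule.span F ({a} : Set V) ∧ Has B L a v 0
  · obtain ⟨a, v, ha, hv, hav, g, hg, e⟩ := hzero
    have hg' : (T (a + v) * T v * T a).1 = g := LinearEquiv.ext fun u => by rw [hE0 a v hav, e]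
    have hv0 : v ≠ 0 := fun h => hv (by rw [h]; exact zero_mem _)
    have hav0 : a + v ≠ 0 := fun h => hv (by
      have : v = a := by rw [← zero_add v, ← vadd_self F a, add_assoc, h, add_zero]
      rw [this]; exact Submodule.mem_span_singleton_self a)
    have hmem : ψ (T (a + v) * T v * T a) ∈ K := hmemK.1 (by rw [hg']; exact hg)
    have hχ : Perm.sign (ψ (T (a + v) * T v * T a)) = -1 := by
      show χ (T (a + v) * T v * T a) = -1
      rw [map_mul, map_mul, hodd _ hav0, hodd _ hv0, hodd _ ha]
      decide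
    by_cases hKt : K = ⊤
    · exact finish (Or.inl (by rw [hKt, Subgroup.index_top]; norm_num))
    have hne : K ≠ alternatingGroup (Fin 6) := fun h => by
      rw [h, Perm.mem_alternatingGroup, hχ] at hmem
      exact absurd hmem (by decide)
    have h6 := PermGroups.Sym.le_index (α := Fin 6) (by simp) K hKt hne
    rw [Fintype.card_fin] at h6
    rcases eq_or_ne K.index 6 with hi | hi
    · exact finish (Or.inr hi)
    exfalso
    have hi12 : K.index = 12 := by
      have := Nat.le_of_dvd (by norm_num) hk12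
      interval_cases h : K.index <;> first | rfl | (exact absurd rfl hi) | (revert hk12; decide)
    let c : K →* ℤˣ := Perm.sign.comp K.subtype
    have hsurj : Function.Surjective c := fun u => by
      rcases Int.units_eq_one_or u with rfl | rfl
      · exact ⟨1, map_one _⟩
      · exact ⟨⟨_, hmem⟩, hχ⟩
    have h30 : Nat.card c.ker = 30 := by
      have h := Subgroup.card_mul_index c.ker
      rw [Subgroup.index_ker, MonoidHom.range_eq_top.2 hsurj, Subgroup.card_top, Nat.card_eq_fintype_card (α := ℤˣ),
        Fintype.card_units_int] at h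
      rw [hi12] at hidx
      omega
    refine no_thirty (c.ker.map K.subtype) ?_
    rw [Subgroup.card_map_of_injective (Subgroup.subtype_injective _), h30]
  · push Not at hzero
    refine finish (Or.inl ?_)
    by_contra hlt
    push Not at hlt
    have hcore := PermGroups.Sym.normalCore_eq_bot (α := Fin 6) (by simp) K hlt
    have hne : ∀ a v : V, a ≠ 0 → B a v = 0 → v ∉ Submodule.span F ({a} : Set V) →
        (T (a + v) * T v).1 ∈ L := fun a v ha hav hv => by
      obtain ⟨c, hc⟩ := S.compl_at (hall a ha) hav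
      have hc1 : c = 1 := hu c fun h => hzero a v ha hv (h ▸ hc)
      obtain ⟨-, g, hg, e⟩ := hc
      have : (T (a + v) * T v).1 = g := LinearEquiv.ext fun u => by rw [hE1 a v hav, e, hc1]
      rw [this]; exact hg
    obtain ⟨v, hav, -, hv⟩ := exists_perp_pair (B := B) a₀ a₀ (k := 1) (by omega) (Submodule.span F {a₀})
      (le_of_eq (finrank_span_singleton S.ne))
    have hin : ψ (T (a₀ + v) * T v) ∈ K.normalCore := by
      show ∀ b : Perm (Fin 6), b * _ * b⁻¹ ∈ K
      intro b
      obtain ⟨h, rfl⟩ := ψ.surjective b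
      rw [← map_inv, ← map_mul, ← map_mul, ← hmemK]
      have e : h * (T (a₀ + v) * T v) * h⁻¹ = T (h.1 a₀ + h.1 v) * T (h.1 v) := by
        have ec : ∀ x, h * T x * h⁻¹ = T (h.1 x) := fun x => Subtype.ext (Classical.Alt.conj_tv S.alt h.2 x 1)
        rw [← map_add, ← ec, ← ec]; group
      rw [e]
      refine hne _ _ (fun h0 => S.ne (h.1.map_eq_zero_iff.1 h0))
        ((Classical.Alt.mem_isoGroup.1 h.2 _ _).trans hav) fun hm => hv ?_
      obtain ⟨r, hr⟩ := Submodule.mem_span_singleton.1 hm
      rw [← map_smul] at hr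
      exact Submodule.mem_span_singleton.2 ⟨r, h.1.injective hr⟩
    rw [hcore, Subgroup.mem_bot, EmbeddingLike.map_eq_one_iff] at hin
    obtain ⟨w, hw, -⟩ := exists_functional S.nondeg (S := (⊥ : Submodule F V))
      (show a₀ ∉ (⊥ : Submodule F V) from fun h => S.ne ((Submodule.mem_bot F).1 h))
    have h1 := hE1 a₀ v hav w
    rw [hin] at h1
    simp only [OneMemClass.coe_one, LinearEquiv.coe_one, id_eq, siegelFun, hw, one_smul, mul_one] at h1
    refine hv (Submodule.mem_span_singleton.2 ⟨B v w + 1, ?_⟩)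
    have h2 : v + (B v w • a₀ + a₀) = 0 := by
      rw [add_assoc, add_assoc] at h1
      exact add_left_cancel (h1.symm.trans (add_zero w).symm)
    rw [add_smul, one_smul]
    calc B v w • a₀ + a₀ = (v + v) + (B v w • a₀ + a₀) := by rw [vadd_self F, zero_add]
      _ = v := by rw [add_assoc, h2, add_zero]

end Setup

end Cfsg.Agent.ElatFree
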