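import Cfsg.Agent.ElatFree.Basic

/-!
If some hyperbolic line carries three points of the orbit, then every point is in the orbit, and, outside
dimension four over the field with two elements, `L` contains every transvection.
-/

set_option autoImplicit false

namespace Cfsg.Agent.ElatFree

open Module

variable {F V : Type*} [Field F] [CharP F 2] [AddCommGroup V] [Module F V]

theorem siegelFun_self {B : LinearMap.BilinForm F V} (a v : V) (c : F) {u : V} (ha : B a u = 0) (hv : B v u = 0) :
    siegelFun B a v c u = u := by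
  unfold siegelFun
  simp [ha, hv]

theorem exists_functional {B : LinearMap.BilinForm F V} [FiniteDimensional F V] (hB : B.Nondegenerate)
    {x : V} {S : Submodule F V} (hx : x ∉ S) : ∃ v, B x v = 1 ∧ ∀ s ∈ S, B s v = 0 := by
  obtain ⟨φ, hφx, hφS⟩ := Submodule.exists_le_ker_of_notMem hx
  obtain ⟨v, hv⟩ := (LinearMap.BilinForm.toDual B.flip hB.flip).surjective φ
  have key : ∀ y, B y v = φ y := fun y => by
    rw [← hv]; rfl
  exact ⟨(φ x)⁻¹ • v, by rw [map_smul, key, smul_eq_mul, inv_mul_cancel₀ hφx],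
    fun s hs => by rw [map_smul, key, LinearMap.mem_ker.1 (hφS hs), smul_zero]⟩

theorem exists_perp_pair {B : LinearMap.BilinForm F V} [FiniteDimensional F V] (a y : V) {k : ℕ}
    (hk : k + 2 < finrank F V) (S : Submodule F V) (hS : finrank F S ≤ k) :
    ∃ z, B a z = 0 ∧ B y z = 0 ∧ z ∉ S := by
  let f : V →ₗ[F] F × F := LinearMap.prod (B a) (B y)
  by_contra h
  push Not at h
  have hle : LinearMap.ker f ≤ S := fun z hz => by
    rw [LinearMap.mem_ker] at hz
    have hz' : B a z = 0 ∧ B y z = 0 := ⟨congrArg Prod.fst hz, congrArg Prod.snd hz⟩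
    exact h z hz'.1 hz'.2
  have h1 := Submodule.finrank_mono hle
  have h2 := LinearMap.finrank_range_add_finrank_ker f
  have h3 : finrank F (LinearMap.range f) ≤ 2 := by
    have := Submodule.finrank_le (LinearMap.range f)
    simpa [Module.finrank_prod] using this
  omega

variable {B : LinearMap.BilinForm F V} {L : Subgroup (V ≃ₗ[F] V)} {a₀ : V}

namespace Setup

variable (S : Setup B L a₀)
include S

theorem perp_line {a p : V} (ha : Pts L a₀ a) (hp : Pts L a₀ p) (hap : B a p = 0)
    (hind : p ∉ Submodule.span F ({a} : Set V)) [FiniteDimensional F V] (ν : F) : Pts L a₀ (p + ν • a) := by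
  obtain ⟨v, hv1, hv0⟩ := exists_functional S.nondeg hind
  have hav : B a (ν • v) = 0 := by
    rw [map_smul, hv0 a (Submodule.mem_span_singleton_self a), smul_zero]
  obtain ⟨c, hc⟩ := S.compl_at ha hav
  have := S.pts_has hc hp
  unfold siegelFun at this
  rwa [hap, zero_smul, add_zero, mul_zero, zero_smul, add_zero, map_smul, LinearMap.smul_apply, S.sym v p,
    hv1, smul_eq_mul, mul_one] at this

theorem three_at (h3 : ThreeOnLine B L a₀) {a b : V} (ha : Pts L a₀ a) (hab : B a b = 1) :
    ∃ ν : F, ν ≠ 0 ∧ ∃ t : F, Pts L a₀ (b + t • a) ∧ Pts L a₀ (b + (t + ν) • a) := by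
  obtain ⟨a₁, b₁, ν, ha₁, hb₁, h1, hν, h₁ν⟩ := h3
  obtain ⟨g₁, hg₁, μ₁, hμ₁, e₁⟩ := ha₁
  obtain ⟨g, hg, μ, hμ, e⟩ := ha
  have hk : g * g₁⁻¹ ∈ L := mul_mem hg (inv_mem hg₁)
  set k := g * g₁⁻¹ with hkdef
  have hka : k a₁ = (μ₁ * μ⁻¹) • a := by
    rw [hkdef, e₁, map_smul, LinearEquiv.mul_apply, Classical.Alt.inv_apply_self, e, smul_smul, mul_assoc,
      inv_mul_cancel₀ hμ, mul_one]
  set lam := μ₁ * μ⁻¹ with hlam
  have hl : lam ≠ 0 := mul_ne_zero hμ₁ (inv_ne_zero hμ)
  have hb' : B a (lam • k b₁) = 1 := by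
    have := S.iso hk a₁ b₁
    rw [h1, hka, map_smul, LinearMap.smul_apply, smul_eq_mul] at this
    rw [map_smul, smul_eq_mul, this]
  obtain ⟨m, hm, hma, t, ht⟩ := S.move ⟨g, hg, μ, hμ, e⟩ hb' hab
  refine ⟨lam * lam * ν, mul_ne_zero (mul_ne_zero hl hl) hν, t,
    ht ▸ S.pts_map (S.pts_smul (S.pts_map hb₁ hk) hl) hm, ?_⟩
  have := S.pts_map (S.pts_smul (S.pts_map h₁ν hk) hl) hm
  rw [map_add, map_smul k, hka, smul_add, map_add, smul_smul, smul_smul, map_smul m (lam * ν * lam),
    hma, ht] at this
  convert this using 1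
  rw [add_smul, add_assoc]
  congr 2
  congr 1
  ring

variable [FiniteDimensional F V] [Finite F]

theorem perp_mem (h3 : ThreeOnLine B L a₀) {a y : V} (ha : Pts L a₀ a) (hay : B a y = 0) (hy : y ≠ 0) :
    Pts L a₀ y := by
  classical
  have : Fintype F := Fintype.ofFinite F
  by_cases hmem : y ∈ Submodule.span F ({a} : Set V)
  · obtain ⟨r, rfl⟩ := Submodule.mem_span_singleton.1 hmem
    exact S.pts_smul ha fun h => hy (by rw [h, zero_smul])
  have hamem : a ∉ Submodule.span F ({y} : Set V) := by
    intro h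
    obtain ⟨r, hr⟩ := Submodule.mem_span_singleton.1 h
    refine hmem (Submodule.mem_span_singleton.2 ⟨r⁻¹, ?_⟩)
    have hr0 : r ≠ 0 := fun e => S.pts_ne ha (by rw [← hr, e, zero_smul])
    rw [← hr, smul_smul, inv_mul_cancel₀ hr0, one_smul]
  obtain ⟨u₀, hu₀, hu₀y⟩ := exists_functional S.nondeg hamem
  have hyu : B y u₀ = 0 := hu₀y y (Submodule.mem_span_singleton_self y)
  obtain ⟨ν, hν, t, h1, h2⟩ := S.three_at h3 ha hu₀
  set b := u₀ + t • a with hb
  have hab : B a b = 1 := by rw [hb, map_add, map_smul, S.self, smul_zero, add_zero, hu₀]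
  have hyb : B y b = 0 := by rw [hb, map_add, hyu, map_smul, S.sym y a, hay, smul_zero, add_zero]
  have hb2 : Pts L a₀ (b + ν • a) := by rw [hb, add_assoc, ← add_smul]; exact h2
  have hay' : ∀ α : F, B a (α • y) = 0 := fun α => by rw [map_smul, hay, smul_zero]
  choose c hc using fun α => S.compl_at ha (hay' α)
  have key : ∀ α : F, Pts L a₀ (b + α • y + c α • a) ∧ Pts L a₀ (b + α • y + (c α + ν) • a) := fun α => by
    constructor
    · have := S.pts_has (hc α) h1
      rwa [S.siegel_partner hab, map_smul, LinearMap.smul_apply, hyb, smul_zero, zero_add] at this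
    · have := S.pts_has (hc α) hb2
      have e : siegelFun B a (α • y) (c α) (b + ν • a) = b + α • y + (c α + ν) • a := by
        unfold siegelFun
        simp only [map_add, map_smul, LinearMap.smul_apply, hab, hyb, S.self, S.sym y a, hay, smul_zero,
          add_zero, smul_eq_mul, mul_zero, one_smul, mul_one, zero_smul, add_smul]
        abel
      rwa [e] at this
  let T : F × Bool → F := fun x => if x.2 then c x.1 + ν else c x.1
  obtain ⟨⟨α, i⟩, ⟨α', i'⟩, hne, hT⟩ := Fintype.exists_ne_map_eq_of_card_lt T (by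
    rw [Fintype.card_prod, Fintype.card_bool]
    have : 0 < Fintype.card F := Fintype.card_pos
    omega)
  have hα : α ≠ α' := by
    rintro rfl
    simp only [T] at hT
    refine hne (Prod.ext rfl ?_)
    cases i <;> cases i' <;> simp_all
  have hu : ∀ β j, Pts L a₀ (b + β • y + T (β, j) • a) := fun β j => by
    cases j <;> simp only [T, if_true, Bool.false_eq_true, if_false]
    · exact (key β).1
    · exact (key β).2
  have p1 := hu α i
  have p2 := hu α' i'
  rw [hT] at p1
  set τ := T (α', i') with hτ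
  set u := b + α • y + τ • a with hudef
  set u' := b + α' • y + τ • a with hu'def
  have hsum : u' + (1 : F) • u = (α + α') • y := by
    rw [hudef, hu'def, one_smul, add_smul]
    have e1 := vadd_self F b
    have e2 := vadd_self F (τ • a)
    calc b + α' • y + τ • a + (b + α • y + τ • a)
        = (b + b) + (τ • a + τ • a) + (α • y + α' • y) := by abel
      _ = α • y + α' • y := by rw [e1, e2, zero_add, zero_add]
  have hd : α + α' ≠ 0 := by rwa [Ne, CharTwo.add_eq_zero]
  have huy : B u y = 0 := by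
    rw [hudef, map_add, map_add, LinearMap.add_apply, LinearMap.add_apply, map_smul, map_smul,
      LinearMap.smul_apply, LinearMap.smul_apply, S.self, S.sym b y, hyb, hay, smul_zero, smul_zero, add_zero,
      add_zero]
  have hperp : B u u' = 0 := by
    have h' : u' = (α + α') • y + u := by
      rw [← hsum, one_smul, add_assoc, vadd_self F, add_zero]
    rw [h', map_add, map_smul, huy, S.self, smul_zero, add_zero]
  have hind : u' ∉ Submodule.span F ({u} : Set V) := by
    intro h
    obtain ⟨r, hr⟩ := Submodule.mem_span_singleton.1 h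
    have hau : B a u = 1 := by
      rw [hudef, map_add, map_add, hab, map_smul, map_smul, hay, S.self, smul_zero, smul_zero, add_zero, add_zero]
    have hau' : B a u' = 1 := by
      rw [hu'def, map_add, map_add, hab, map_smul, map_smul, hay, S.self, smul_zero, smul_zero, add_zero, add_zero]
    have : r = 1 := by
      have := congrArg (B a) hr
      rwa [map_smul, hau, hau', smul_eq_mul, mul_one] at this
    subst this
    rw [one_smul] at hr
    rw [← hr, one_smul, vadd_self F] at hsum
    exact (smul_ne_zero hd hy) hsum.symm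
  have := S.pts_smul (S.perp_line p1 p2 hperp hind 1) (inv_ne_zero hd)
  rwa [hsum, smul_smul, inv_mul_cancel₀ hd, one_smul] at this

theorem all_pts (h3 : ThreeOnLine B L a₀) (hdim : 3 < finrank F V) {y : V} (hy : y ≠ 0) : Pts L a₀ y := by
  obtain ⟨z, hz1, hz2, hz⟩ := exists_perp_pair (B := B) a₀ y (k := 1) (by omega) (Submodule.span F {a₀})
    (le_of_eq (finrank_span_singleton S.ne))
  have hz0 : z ≠ 0 := fun h => hz (by rw [h]; exact zero_mem _)
  exact S.perp_mem h3 (S.perp_mem h3 S.base hz1 hz0) (by rw [S.sym, hz2]) hy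

omit [Finite F] in
/-- The Siegel elements at `w` act on those at an orthogonal point `a`. -/
theorem star {a w x v : V} {e c : F} (hwx : Has B L w x e) (haw : B a w = 0) (hax : B a x = 0)
    (hv : Has B L a v c) :
    Has B L a (B w v • x + B x v • w + (e * B w v) • w) (e * B w v * B w v) := by
  obtain ⟨hwx', g, hg, hgf⟩ := hwx
  have hga : g a = a := by
    rw [hgf]; exact siegelFun_self _ _ _ (by rw [S.sym, haw]) (by rw [S.sym, hax])
  have h1 := S.has_conj hg hv
  rw [hga] at h1
  have h2 := S.has_mul hv h1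
  rw [hgf] at h2
  have e1 : v + siegelFun B w x e v = B w v • x + B x v • w + (e * B w v) • w := by
    unfold siegelFun
    calc v + (v + B w v • x + B x v • w + (e * B w v) • w)
        = (v + v) + (B w v • x + B x v • w + (e * B w v) • w) := by abel
      _ = _ := by rw [vadd_self F, zero_add]
  have e2 : c + c + B v (siegelFun B w x e v) = e * B w v * B w v := by
    unfold siegelFun
    simp only [map_add, map_smul, S.self, smul_eq_mul, S.sym v x, S.sym v w, CharTwo.add_self_eq_zero, zero_add]
    linear_combination (2 : F)⁻¹ * 0 + CharTwo.two_eq_zero (R := F) * (B w v * B x v)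
  rwa [e1, e2] at h2

omit [Finite F] in
/-- An element at `w` in the direction of `a` gives a whole line of elements at `a`. -/
theorem star_line {a w : V} {lam e : F} (hwx : Has B L w (lam • a) e) (he : e ≠ 0) (ha : Pts L a₀ a)
    (haw : B a w = 0) (hind : w ∉ Submodule.span F ({a} : Set V)) (ν : F) : Has B L a (ν • w) (ν * ν / e) := by
  obtain ⟨v, hv1, hv0⟩ := exists_functional S.nondeg hind
  have hva : B a v = 0 := hv0 a (Submodule.mem_span_singleton_self a)
  have hav : B a ((ν / e) • v) = 0 := by rw [map_smul, hva, smul_zero]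
  obtain ⟨c, hc⟩ := S.compl_at ha hav
  have h := S.star hwx haw (by rw [map_smul, S.self, smul_zero]) hc
  have e1 : B w ((ν / e) • v) = ν / e := by rw [map_smul, hv1, smul_eq_mul, mul_one]
  have e2 : B (lam • a) ((ν / e) • v) = 0 := by rw [LinearMap.map_smul₂, hav, smul_zero]
  rw [e1, e2, zero_smul, add_zero] at h
  have h' := S.has_congr (ν / e * lam) h
  have e3 : (ν / e) • lam • a + (e * (ν / e)) • w + (ν / e * lam) • a = ν • w := by
    rw [smul_smul, add_right_comm, vadd_self F, zero_add, mul_div_cancel₀ _ he]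
  rw [e3, show e * (ν / e) * (ν / e) = ν * ν / e by field_simp] at h'
  exact h'

omit [FiniteDimensional F V] in
theorem pts_trans {p p' : V} (hp : Pts L a₀ p) (hp' : Pts L a₀ p') :
    ∃ g ∈ L, ∃ μ : F, μ ≠ 0 ∧ p' = μ • g p := by
  obtain ⟨g, hg, μ, hμ, rfl⟩ := hp
  obtain ⟨g', hg', μ', hμ', rfl⟩ := hp'
  refine ⟨g' * g⁻¹, mul_mem hg' (inv_mem hg), μ' * μ⁻¹, mul_ne_zero hμ' (inv_ne_zero hμ), ?_⟩
  rw [map_smul, LinearEquiv.mul_apply, Classical.Alt.inv_apply_self, smul_smul, mul_assoc, inv_mul_cancel₀ hμ,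
    mul_one]

theorem le_of_full (hfull : ∀ p : V, p ≠ 0 → ∀ c, Has B L p 0 c) : Classical.Alt.isoGroup B ≤ L := by
  rw [← Classical.Alt.TG_top S.alt S.nondeg, Classical.Alt.TG, Subgroup.closure_le]
  intro t ht
  obtain ⟨v, -, c, rfl⟩ : ∃ v ∈ (⊤ : Submodule F V), ∃ c, t = Classical.Alt.tv S.alt v c := by
    obtain ⟨v, hv, c, h⟩ := ht
    exact ⟨v, hv, c, LinearEquiv.ext fun x => by rw [h, Classical.Alt.tv_apply]⟩
  rcases eq_or_ne v 0 with rfl | hv
  · have : Classical.Alt.tv S.alt (0 : V) c = 1 := by ext u; simp [Classical.Alt.tv_apply]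
    rw [this]; exact one_mem L
  obtain ⟨-, g, hg, e⟩ := hfull v hv c
  have : Classical.Alt.tv S.alt v c = g := LinearEquiv.ext fun u => by
    rw [e, Classical.Alt.tv_apply, siegelFun, S.sym u v]
    simp
  rw [this]; exact hg

theorem full_of_zero (hdim : 3 < finrank F V)
    (hz : ∀ a v : V, a ≠ 0 → B a v = 0 → v ∉ Submodule.span F ({a} : Set V) → Has B L a v 0) :
    ∀ p : V, p ≠ 0 → ∀ c, Has B L p 0 c := by
  intro a ha c
  obtain ⟨v, hav, -, hv⟩ := exists_perp_pair (B := B) a a (k := 1) (by omega) (Submodule.span F {a})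
    (le_of_eq (finrank_span_singleton ha))
  obtain ⟨v', hv'1, hv'0⟩ := exists_functional S.nondeg hv
  have hav' : B a v' = 0 := hv'0 a (Submodule.mem_span_singleton_self a)
  rcases eq_or_ne c 0 with rfl | hc
  · have := S.has_mul (hz a v ha hav hv) (hz a v ha hav hv)
    rwa [vadd_self F, S.self, add_zero, add_zero] at this
  set w := c • v' with hw
  have haw : B a w = 0 := by rw [hw, map_smul, hav', smul_zero]
  have hvw : B v w = c := by rw [hw, map_smul, hv'1, smul_eq_mul, mul_one]
  have hw' : ∀ r : F, r • a ≠ w := fun r h => hc (by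
    rw [← hvw, ← h, map_smul, S.sym v a, hav, smul_zero])
  have hvw' : ∀ r : F, r • a ≠ v + w := fun r h => hc (by
    have := congrArg (B v) h
    rwa [map_add, S.self, zero_add, hvw, map_smul, S.sym v a, hav, smul_zero, eq_comm] at this)
  have h1 := S.has_mul (hz a v ha hav hv) (hz a w ha haw fun h => by
    obtain ⟨r, hr⟩ := Submodule.mem_span_singleton.1 h; exact hw' r hr)
  have h2 := hz a (v + w) ha h1.1 fun h => by
    obtain ⟨r, hr⟩ := Submodule.mem_span_singleton.1 h; exact hvw' r hr
  have := S.has_mul h1 h2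
  rwa [vadd_self F, S.self, hvw, zero_add, zero_add, add_zero, add_zero] at this

/-- Three points of the orbit on a line give the whole symplectic group. -/
theorem three_full (h3 : ThreeOnLine B L a₀) (hdim : 3 < finrank F V)
    (hex : Nat.card F ≠ 2 ∨ 4 < finrank F V) : Classical.Alt.isoGroup B ≤ L := by
  have hall : ∀ y : V, y ≠ 0 → Pts L a₀ y := fun y hy => S.all_pts h3 hdim hy
  refine S.le_of_full ?_
  by_cases hz : ∀ a v : V, a ≠ 0 → B a v = 0 → v ∉ Submodule.span F ({a} : Set V) → Has B L a v 0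
  · exact S.full_of_zero hdim hz
  by_cases hn : 4 < finrank F V
  · refine absurd (fun a w ha haw hind => ?_) hz
    obtain ⟨x, hax, hwx, hx⟩ := exists_perp_pair (B := B) a w (k := 2) (by omega)
      (Submodule.span F {a} ⊔ Submodule.span F {w}) (by
        refine le_trans (Submodule.finrank_add_le_finrank_add_finrank _ _) ?_
        have hw0 : w ≠ 0 := fun h => hind (by rw [h]; exact zero_mem _)
        rw [finrank_span_singleton ha, finrank_span_singleton hw0])
    obtain ⟨v, hv1, hv0⟩ := exists_functional S.nondeg hx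
    have hva : B a v = 0 := hv0 a (Submodule.mem_sup_left (Submodule.mem_span_singleton_self a))
    have hvw : B w v = 0 := hv0 w (Submodule.mem_sup_right (Submodule.mem_span_singleton_self w))
    have hw0 : w ≠ 0 := fun h => hind (by rw [h]; exact zero_mem _)
    obtain ⟨e, he⟩ := S.compl_at (hall w hw0) hwx
    obtain ⟨c, hc⟩ := S.compl_at (hall a ha) hva
    have := S.star he haw hax hc
    rwa [hvw, zero_smul, mul_zero, zero_smul, mul_zero, zero_add, add_zero, hv1, one_smul] at this
  have hq : Nat.card F ≠ 2 := hex.resolve_right hn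
  have : Fintype F := Fintype.ofFinite F
  push Not at hz
  obtain ⟨w, a, hw, hwa, hind, hne⟩ := hz
  obtain ⟨e, he⟩ := S.compl_at (hall w hw) hwa
  have he0 : e ≠ 0 := fun h => hne (h ▸ he)
  rw [← one_smul F a] at he
  have ha : a ≠ 0 := fun h => hind (by rw [h]; exact zero_mem _)
  have hind' : w ∉ Submodule.span F ({a} : Set V) := fun h => by
    obtain ⟨r, hr⟩ := Submodule.mem_span_singleton.1 h
    refine hind (Submodule.mem_span_singleton.2 ⟨r⁻¹, ?_⟩)
    have hr0 : r ≠ 0 := fun e' => hw (by rw [← hr, e', zero_smul])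
    rw [← hr, smul_smul, inv_mul_cancel₀ hr0, one_smul]
  have haw : B a w = 0 := by rw [S.sym]; exact hwa
  have hall' : ∀ z : F, z ≠ 0 → Has B L w a z := fun z hz0 => by
    obtain ⟨μ, hμ⟩ := FiniteField.isSquare_of_char_two (ringChar.eq F 2) (e / z)
    have hμ0 : μ ≠ 0 := fun h => div_ne_zero he0 hz0 (by rw [hμ, h, mul_zero])
    have h1 := S.star_line he he0 (hall a ha) haw hind' μ
    have h2 := S.star_line h1 (div_ne_zero (mul_ne_zero hμ0 hμ0) he0) (hall w hw) hwa hind 1
    rwa [one_smul, ← hμ, one_mul, show (1 : F) / (e / z / e) = z by field_simp] at h2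
  have hw0 : ∀ c : F, Has B L w 0 c := fun c => by
    obtain ⟨x, hx0, hxc⟩ : ∃ x : F, x ≠ 0 ∧ x ≠ c := by
      by_contra h
      push Not at h
      refine hq ?_
      have hu : ∀ x : F, x = 0 ∨ x = 1 := fun x => by
        by_cases hx : x = 0
        · exact Or.inl hx
        · exact Or.inr ((h x hx).trans (h 1 one_ne_zero).symm)
      rw [Nat.card_eq_fintype_card, Fintype.card_eq_nat_card, Nat.card_eq_two_iff]
      exact ⟨0, 1, zero_ne_one, Set.eq_univ_of_forall fun x => by
        rcases hu x with h | h <;> simp [h]⟩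
    have := S.has_mul (hall' x hx0) (hall' (x + c) fun h => hxc (by
      rwa [CharTwo.add_eq_zero] at h))
    rwa [vadd_self F, S.self, add_zero, ← add_assoc, CharTwo.add_self_eq_zero, zero_add] at this
  intro p hp c
  obtain ⟨g, hg, μ, hμ, rfl⟩ := S.pts_trans (hall w hw) (hall p hp)
  have := S.has_smul (S.has_conj hg (hw0 (μ ^ 2 * c))) hμ
  rwa [map_zero, smul_zero, ← mul_assoc, ← mul_pow, inv_mul_cancel₀ hμ, one_pow, one_mul] at this

end Setup

end Cfsg.Agent.ElatFree
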